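import Mathlib
import Cfsg.Prelude.Def_MonsterType
set_option autoImplicit false

namespace Cfsg.Agent.H29
open Subgroup
open scoped commutatorElement

theorem mem_zpowers_of_sq {G : Type*} [Group G] {z : G} (hz : z * z = 1) {x : G} :
    x ∈ Subgroup.zpowers z ↔ x = 1 ∨ x = z := by
  constructor
  · rintro ⟨n, rfl⟩
    have h2 : z ^ (2 : ℤ) = 1 := by rw [zpow_ofNat, pow_two]; exact hz
    rcases Int.even_or_odd n with ⟨m, hm⟩ | ⟨m, hm⟩
    · left
      show z ^ n = 1
      rw [hm, ← two_mul, zpow_mul, h2, one_zpow]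
    · right
      show z ^ n = z
      rw [hm, zpow_add, zpow_mul, h2, one_zpow, one_mul, zpow_one]
  · rintro (rfl | rfl)
    · exact one_mem _
    · exact Subgroup.mem_zpowers _

/-- A maximal subgroup of a finite `p`-group is normal. -/
theorem pgroup_coatom_normal {p : ℕ} [Fact p.Prime] {P : Type*} [Group P] [Finite P]
    (h : IsPGroup p P) {M : Subgroup P} (hM : IsCoatom M) : M.Normal := by
  have := h.isNilpotent
  exact Subgroup.NormalizerCondition.normal_of_coatom _ Group.normalizerCondition_of_isNilpotent hM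

/-- A maximal subgroup of a finite `p`-group has index `p`. -/
theorem pgroup_coatom_index {p : ℕ} [hpf : Fact p.Prime] {P : Type*} [Group P] [Finite P]
    (h : IsPGroup p P) {M : Subgroup P} (hM : IsCoatom M) : M.index = p := by
  obtain ⟨m, hm⟩ := (IsPGroup.iff_card.1 (h.to_subgroup M))
  obtain ⟨n, hn⟩ := (IsPGroup.iff_card.1 h)
  have hpos : 0 < p ^ m := pow_pos hpf.out.pos m
  have hlt : m < n := by
    rcases Nat.lt_or_ge m n with h1 | h1
    · exact h1
    · exfalso
      have h2 : Nat.card P ≤ Nat.card M := by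
        rw [hm, hn]; exact Nat.pow_le_pow_right hpf.out.pos h1
      exact hM.1 (Subgroup.eq_top_of_le_card _ h2)
  obtain ⟨K, hK, hMK⟩ := Sylow.exists_subgroup_card_pow_succ (p := p) (n := m) (by
    rw [hn]; exact pow_dvd_pow _ hlt) hm
  have hKM : K ≠ M := by
    rintro rfl
    rw [hK, pow_succ] at hm
    have : p = 1 := by
      have := Nat.eq_of_mul_eq_mul_left hpos (by rw [hm, mul_one] : p ^ m * p = p ^ m * 1)
      exact this
    exact hpf.out.one_lt.ne' this
  have hKt : K = ⊤ := hM.2 K (lt_of_le_of_ne hMK (Ne.symm hKM))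
  have hc : Nat.card P = p ^ m * p := by
    rw [← pow_succ, ← hK, hKt, Subgroup.card_top]
  have := M.card_mul_index
  rw [hm, hc] at this
  exact Nat.eq_of_mul_eq_mul_left hpos this

theorem mem_frattini_iff {P : Type*} [Group P] {x : P} :
    x ∈ frattini P ↔ ∀ M : Subgroup P, IsCoatom M → x ∈ M := by
  rw [frattini, Order.radical]
  simp only [Subgroup.mem_iInf]
  rfl

theorem pgroup_pow_mem_frattini {p : ℕ} [hpf : Fact p.Prime] {P : Type*} [Group P] [Finite P]
    (h : IsPGroup p P) (x : P) : x ^ p ∈ frattini P := by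
  rw [mem_frattini_iff]
  intro M hM
  have := pgroup_coatom_normal h hM
  have h2 := pgroup_coatom_index h hM
  have h3 := M.pow_mem_of_index_ne_zero_of_dvd
  have h4 := Subgroup.pow_index_mem (H := M) x
  rw [h2] at h4
  exact h4

theorem pgroup_commutator_le_frattini {p : ℕ} [hpf : Fact p.Prime] {P : Type*} [Group P] [Finite P]
    (h : IsPGroup p P) : commutator P ≤ frattini P := by
  intro x hx
  rw [mem_frattini_iff]
  intro M hM
  have hn := pgroup_coatom_normal h hM
  have h2 := pgroup_coatom_index h hM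
  have hc : Nat.card (P ⧸ M) = p := h2
  have : IsCyclic (P ⧸ M) := isCyclic_of_prime_card hc
  have hcomm : commutator P ≤ M := by
    rw [_root_.commutator_def, Subgroup.commutator_le]
    intro a _ b _
    rw [← QuotientGroup.eq_one_iff]
    have hab : (a : P ⧸ M) * b = b * a := (IsCyclic.commGroup (α := P ⧸ M)).mul_comm _ _
    rw [commutatorElement_def]
    simp only [QuotientGroup.mk_mul, QuotientGroup.mk_inv]
    rw [hab]; group
  exact hcomm hx

/-- Elementwise facts about an extraspecial 2-subgroup `Q` of `G` with central involution `z`. -/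
structure XS {G : Type*} [Group G] (Q : Subgroup G) (z : G) : Prop where
  hp : IsPGroup 2 Q
  z_ne : z ≠ 1
  z_sq : z * z = 1
  z_mem : z ∈ Q
  z_comm : ∀ x ∈ Q, x * z = z * x
  cent : ∀ x ∈ Q, (∀ y ∈ Q, x * y = y * x) → x = 1 ∨ x = z
  comm : ∀ x ∈ Q, ∀ y ∈ Q, x * y = y * x ∨ x * y = z * (y * x)
  sq : ∀ x ∈ Q, x * x = 1 ∨ x * x = z
  nonab : ∃ x ∈ Q, ∃ y ∈ Q, x * y ≠ y * x
  center_eq : (Subgroup.center Q).map Q.subtype = Subgroup.zpowers z

theorem xs_of_isExtraspecial {G : Type*} [Group G] (Q : Subgroup G) [Finite Q]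
    (hQ : Cfsg.IsExtraspecial 2 Q) : ∃ z, XS Q z := by
  have : Fact (Nat.Prime 2) := ⟨Nat.prime_two⟩
  obtain ⟨⟨hp, hf, hc⟩, hcard⟩ := hQ
  have h1 : ∃ z : Subgroup.center Q, z ≠ 1 := by
    have : Nontrivial (Subgroup.center Q) := by
      rw [← Finite.one_lt_card_iff_nontrivial, hcard]; norm_num
    exact exists_ne 1
  obtain ⟨z, hz⟩ := h1
  have hz2 : z * z = 1 := by
    have := pow_card_eq_one' (x := z)
    rw [hcard, pow_two] at this
    exact this
  have hall : ∀ x ∈ Subgroup.center Q, x = 1 ∨ x = (z : Q) := by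
    intro x hx
    have h2 : (Subgroup.zpowers z) = ⊤ := by
      apply Subgroup.eq_top_of_card_eq
      rw [Nat.card_zpowers, hcard]
      exact orderOf_eq_prime (by rw [pow_two]; exact hz2) hz
    have h3 : (⟨x, hx⟩ : Subgroup.center Q) ∈ Subgroup.zpowers z := by rw [h2]; trivial
    rw [mem_zpowers_of_sq hz2] at h3
    rcases h3 with h3 | h3
    · left; exact congrArg Subtype.val h3
    · right; exact congrArg Subtype.val h3
  have hzv : ((z : Q) : G) * ((z : Q) : G) = 1 := by
    have := congrArg (fun t : Subgroup.center Q => ((t : Q) : G)) hz2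
    simpa using this
  refine ⟨((z : Q) : G), hp, ?_, hzv, ?_, ?_, ?_, ?_, ?_, ?_, ?_⟩
  · intro h
    apply hz
    apply Subtype.ext; apply Subtype.ext
    simpa using h
  · exact (z : Q).2
  · intro x hx
    have := Subgroup.mem_center_iff.1 z.2 ⟨x, hx⟩
    exact congrArg Subtype.val this
  · intro x hx hxy
    have h2 : (⟨x, hx⟩ : Q) ∈ Subgroup.center Q := by
      rw [Subgroup.mem_center_iff]
      intro y
      apply Subtype.ext
      exact (hxy y y.2).symm
    rcases hall _ h2 with h3 | h3
    · left; exact congrArg Subtype.val h3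
    · right; exact congrArg Subtype.val h3
  · intro x hx y hy
    have h2 : ⁅(⟨x, hx⟩ : Q), (⟨y, hy⟩ : Q)⁆ ∈ Subgroup.center Q := by
      rw [← hc]
      exact Subgroup.commutator_mem_commutator (Subgroup.mem_top _) (Subgroup.mem_top _)
    rcases hall _ h2 with h3 | h3
    · left
      have h4 := congrArg Subtype.val h3
      simp only [commutatorElement_def, Subgroup.coe_mul, InvMemClass.coe_inv, Subgroup.coe_one] at h4
      have : x * y = (x * y * x⁻¹ * y⁻¹) * (y * x) := by group
      rw [this, h4, one_mul]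
    · right
      have h4 := congrArg Subtype.val h3
      simp only [commutatorElement_def, Subgroup.coe_mul, InvMemClass.coe_inv] at h4
      have : x * y = (x * y * x⁻¹ * y⁻¹) * (y * x) := by group
      rw [this, h4]
  · intro x hx
    have h2 : (⟨x, hx⟩ : Q) ^ 2 ∈ Subgroup.center Q := by
      rw [← hf]
      exact pgroup_pow_mem_frattini hp _
    rcases hall _ h2 with h3 | h3
    · left
      have h4 := congrArg Subtype.val h3
      simpa [pow_two] using h4
    · right
      have h4 := congrArg Subtype.val h3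
      simpa [pow_two] using h4
  · by_contra hne
    push Not at hne
    have : commutator Q = ⊥ := by
      rw [_root_.commutator_def, Subgroup.commutator_eq_bot_iff_le_centralizer]
      intro x _
      rw [Subgroup.mem_centralizer_iff]
      intro y _
      apply Subtype.ext
      exact hne y y.2 x x.2
    rw [hc] at this
    rw [this, Subgroup.card_bot] at hcard
    norm_num at hcard
  · ext x
    rw [mem_zpowers_of_sq hzv]
    constructor
    · rintro ⟨y, hy, rfl⟩
      rcases hall y hy with h | h
      · left; rw [h]; simp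
      · right; rw [h]; rfl
    · rintro (rfl | rfl)
      · exact one_mem _
      · exact ⟨(z : Q), z.2, rfl⟩

theorem XS.norm_comm {G : Type*} [Group G] {Q : Subgroup G} {z : G} (h : XS Q z) {x : G}
    (hx : x ∈ Subgroup.normalizer (Q : Set G)) : x * z = z * x := by
  have h1 : x * z * x⁻¹ ∈ Q := (Subgroup.mem_normalizer_iff.1 hx z).1 h.z_mem
  have h2 : ∀ y ∈ Q, (x * z * x⁻¹) * y = y * (x * z * x⁻¹) := by
    intro y hy
    have h3 : x⁻¹ * y * x ∈ Q := by
      have := (Subgroup.mem_normalizer_iff.1 (inv_mem hx) y).1 hy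
      simpa using this
    have h4 := h.z_comm _ h3
    calc (x * z * x⁻¹) * y = x * (z * (x⁻¹ * y * x)) * x⁻¹ := by group
      _ = x * ((x⁻¹ * y * x) * z) * x⁻¹ := by rw [h4]
      _ = y * (x * z * x⁻¹) := by group
  rcases h.cent _ h1 h2 with h3 | h3
  · exfalso
    apply h.z_ne
    have : z = x⁻¹ * (x * z * x⁻¹) * x := by group
    rw [this, h3]; group
  · exact mul_inv_eq_iff_eq_mul.1 h3

/-- Elementwise facts about an extraspecial 2-subgroup `Q` with `C(Q) = Z(Q)`, `Q` normal in
`C(Z(Q))`. -/
structure NXS {G : Type*} [Group G] (Q : Subgroup G) (z : G) : Prop extends XS Q z where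
  cent_G : ∀ x, (∀ y ∈ Q, x * y = y * x) → x = 1 ∨ x = z
  norm : ∀ x, x ∈ Subgroup.normalizer (Q : Set G) ↔ x * z = z * x

/-- Elementwise facts about a large extraspecial 2-subgroup. -/
structure LXS {G : Type*} [Group G] (Q : Subgroup G) (z : G) : Prop extends NXS Q z where
  odd : ∀ K : Subgroup G, Odd (Nat.card K) → Q ≤ Subgroup.normalizer (K : Set G) → K = ⊥

theorem nxs_of_isExtraspecial {G : Type*} [Group G] (Q : Subgroup G) [Finite Q]
    (hx : Cfsg.IsExtraspecial 2 Q)
    (hc : Subgroup.centralizer (Q : Set G) = (Subgroup.center Q).map Q.subtype)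
    (hn : Subgroup.centralizer (((Subgroup.center Q).map Q.subtype : Subgroup G) : Set G) ≤
      Subgroup.normalizer (Q : Set G)) : ∃ z, NXS Q z := by
  obtain ⟨z, hz⟩ := xs_of_isExtraspecial Q hx
  refine ⟨z, hz, ?_, ?_⟩
  · intro x hx
    have h1 : x ∈ Subgroup.centralizer (Q : Set G) := by
      rw [Subgroup.mem_centralizer_iff]
      intro y hy
      exact (hx y hy).symm
    rw [hc, hz.center_eq, mem_zpowers_of_sq hz.z_sq] at h1
    exact h1
  · intro x
    constructor
    · exact hz.norm_comm
    · intro hxz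
      apply hn
      rw [hz.center_eq, Subgroup.mem_centralizer_iff]
      intro y hy
      rcases (mem_zpowers_of_sq hz.z_sq).1 hy with h | h
      · rw [h, one_mul, mul_one]
      · rw [h, hxz]

theorem lxs_of_isLargeExtraspecial {G : Type*} [Group G] (Q : Subgroup G) [Finite Q]
    (hQ : Cfsg.IsLargeExtraspecial Q) : ∃ z, LXS Q z := by
  obtain ⟨hx, hc, hn, ho⟩ := hQ
  obtain ⟨z, hz⟩ := nxs_of_isExtraspecial Q hx hc hn
  exact ⟨z, hz, ho⟩

end Cfsg.Agent.H29
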