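import Mathlib
import Cfsg.Prelude.Def_MonsterType
import Cfsg.Agent.H29.XS
set_option autoImplicit false

namespace Cfsg.Agent.H29
open Subgroup
open scoped commutatorElement

theorem eq_one_of_odd_of_two {G : Type*} [Group G] {K P : Subgroup G} (hK : Odd (Nat.card K))
    (hP : IsPGroup 2 P) {x : G} (hxK : x ∈ K) (hxP : x ∈ P) : x = 1 := by
  have h1 : orderOf x ∣ Nat.card K := by
    have := orderOf_dvd_natCard (⟨x, hxK⟩ : K)
    rwa [Subgroup.orderOf_mk] at this
  obtain ⟨k, hk⟩ := hP ⟨x, hxP⟩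
  have h2 : x ^ 2 ^ k = 1 := by
    have := congrArg Subtype.val hk
    simpa using this
  have h3 : orderOf x ∣ 2 ^ k := orderOf_dvd_of_pow_eq_one h2
  have h4 : Nat.Coprime (Nat.card K) (2 ^ k) := by
    apply Nat.Coprime.pow_right
    exact Nat.coprime_two_right.2 hK
  have h5 : orderOf x ∣ 1 := by
    rw [← h4.gcd_eq_one]
    exact Nat.dvd_gcd h1 h3
  exact orderOf_eq_one_iff.1 (Nat.dvd_one.1 h5)

theorem conj_mem_of_normalizer {G : Type*} [Group G] {K : Subgroup G} {x k : G}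
    (hx : x ∈ Subgroup.normalizer (K : Set G)) (hk : k ∈ K) : x * k * x⁻¹ ∈ K :=
  (Subgroup.mem_normalizer_iff.1 hx k).1 hk

theorem conj_mem_of_normalizer' {G : Type*} [Group G] {K : Subgroup G} {x k : G}
    (hx : x ∈ Subgroup.normalizer (K : Set G)) (hk : k ∈ K) : x⁻¹ * k * x ∈ K := by
  have := (Subgroup.mem_normalizer_iff.1 (inv_mem hx) k).1 hk
  simpa using this

theorem inv_of_fpf {G : Type*} [Group G] {K : Subgroup G} [Finite K] {t : G} (ht : t * t = 1)
    (hn : ∀ k ∈ K, t * k * t⁻¹ ∈ K) (hf : ∀ k ∈ K, k * t = t * k → k = 1) :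
    ∀ k ∈ K, t * k * t⁻¹ = k⁻¹ := by
  let φ : K →* K :=
    { toFun := fun k => ⟨t * k * t⁻¹, hn k k.2⟩
      map_one' := by simp
      map_mul' := fun a b => by simp [mul_assoc] }
  have h1 : MonoidHom.FixedPointFree φ := by
    intro k hk
    apply Subtype.ext
    apply hf k k.2
    have := congrArg Subtype.val hk
    exact (mul_inv_eq_iff_eq_mul.1 this).symm
  have hti : t⁻¹ = t := inv_eq_of_mul_eq_one_left ht
  have h2 : Function.Involutive φ := by
    intro k
    apply Subtype.ext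
    show t * (t * k * t⁻¹) * t⁻¹ = k
    rw [hti]
    calc t * (t * k * t) * t = (t * t) * k * (t * t) := by group
      _ = k := by rw [ht]; simp
  intro k hk
  have h3 := MonoidHom.FixedPointFree.coe_eq_inv_of_involutive h1 h2
  have h4 := congrArg Subtype.val (congrFun h3 ⟨k, hk⟩)
  exact h4

/-- `Q`-invariant odd order subgroups centralizing `z` are trivial. -/
theorem NXS.bot_of_comm {G : Type*} [Group G] {Q : Subgroup G} {z : G} (h : NXS Q z)
    {K : Subgroup G} (hK : Odd (Nat.card K)) (hn : Q ≤ Subgroup.normalizer (K : Set G))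
    (hc : ∀ k ∈ K, k * z = z * k) : K = ⊥ := by
  rw [Subgroup.eq_bot_iff_forall]
  intro k hk
  have hkn : k ∈ Subgroup.normalizer (Q : Set G) := (h.norm k).2 (hc k hk)
  have h1 : ∀ y ∈ Q, k * y = y * k := by
    intro y hy
    have h2 : k * y * k⁻¹ * y⁻¹ ∈ K := by
      have : k * y * k⁻¹ * y⁻¹ = k * (y * k⁻¹ * y⁻¹) := by group
      rw [this]
      exact mul_mem hk (conj_mem_of_normalizer (hn hy) (inv_mem hk))
    have h3 : k * y * k⁻¹ * y⁻¹ ∈ Q := mul_mem (conj_mem_of_normalizer hkn hy) (inv_mem hy)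
    have h4 := eq_one_of_odd_of_two hK h.hp h2 h3
    have : k * y = (k * y * k⁻¹ * y⁻¹) * (y * k) := by group
    rw [this, h4, one_mul]
  have h5 : k ∈ Q := by
    rcases h.cent_G k h1 with h6 | h6
    · rw [h6]; exact one_mem _
    · rw [h6]; exact h.z_mem
  exact eq_one_of_odd_of_two hK h.hp hk h5

theorem NXS.odd_of_core {G : Type*} [Group G] {Q : Subgroup G} {z : G} (h : NXS Q z)
    {P : Subgroup G} [P.Normal] (hP : IsPGroup 2 P) (hz : z ∈ P) :
    ∀ K : Subgroup G, Odd (Nat.card K) → Q ≤ Subgroup.normalizer (K : Set G) → K = ⊥ := by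
  intro K hK hn
  apply h.bot_of_comm hK hn
  intro k hk
  have h2 : k * z * k⁻¹ * z⁻¹ ∈ K := by
    have : k * z * k⁻¹ * z⁻¹ = k * (z * k⁻¹ * z⁻¹) := by group
    rw [this]
    exact mul_mem hk (conj_mem_of_normalizer (hn h.z_mem) (inv_mem hk))
  have h3 : k * z * k⁻¹ * z⁻¹ ∈ P := mul_mem (Subgroup.Normal.conj_mem inferInstance z hz k) (inv_mem hz)
  have h4 := eq_one_of_odd_of_two hK hP h2 h3
  have : k * z = (k * z * k⁻¹ * z⁻¹) * (z * k) := by group
  rw [this, h4, one_mul]

/-- The hypothesis on an involution `b ∈ Q`: `z ∈ P ⊴ C(b)` with `P` a 2-group. -/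
theorem NXS.odd_of_invol {G : Type*} [Group G] [Finite G] {Q : Subgroup G} {z : G} (h : NXS Q z)
    {b : G} (hb : b ∈ Q) (hb1 : b ≠ 1) (hbz : b ≠ z) (hb2 : b * b = 1)
    {P : Subgroup G} (hP : IsPGroup 2 P) (hz : z ∈ P)
    (hPn : ∀ x, x * b = b * x → ∀ y ∈ P, x * y * x⁻¹ ∈ P) :
    ∀ K : Subgroup G, Odd (Nat.card K) → Q ≤ Subgroup.normalizer (K : Set G) → K = ⊥ := by
  intro K hK hn
  -- C_K(z) = 1
  have hCz : ∀ k ∈ K, k * z = z * k → k = 1 := by
    intro k hk hkz
    have h1 : (K ⊓ Subgroup.centralizer {z} : Subgroup G) = ⊥ := by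
      apply h.bot_of_comm
      · exact Odd.of_dvd_nat hK (Subgroup.card_dvd_of_le inf_le_left)
      · intro q hq
        rw [Subgroup.mem_normalizer_iff]
        intro x
        have hqz := h.z_comm q hq
        have key : ∀ q ∈ Q, ∀ x, x ∈ (K ⊓ Subgroup.centralizer {z} : Subgroup G) →
            q * x * q⁻¹ ∈ (K ⊓ Subgroup.centralizer {z} : Subgroup G) := by
          intro q hq x hx
          rw [Subgroup.mem_inf, Subgroup.mem_centralizer_singleton_iff] at hx ⊢
          refine ⟨conj_mem_of_normalizer (hn hq) hx.1, ?_⟩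
          have h3 := h.z_comm q hq
          have h4 := hx.2
          have h5 := h.z_comm _ (inv_mem hq)
          calc q * x * q⁻¹ * z = q * x * (q⁻¹ * z) := by group
            _ = q * x * (z * q⁻¹) := by rw [h5]
            _ = q * (x * z) * q⁻¹ := by group
            _ = q * (z * x) * q⁻¹ := by rw [h4]
            _ = (q * z) * x * q⁻¹ := by group
            _ = (z * q) * x * q⁻¹ := by rw [h3]
            _ = z * (q * x * q⁻¹) := by group
        constructor
        · exact key q hq x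
        · intro hx
          have := key q⁻¹ (inv_mem hq) _ hx
          have h6 : q⁻¹ * (q * x * q⁻¹) * q⁻¹⁻¹ = x := by group
          rwa [h6] at this
      · intro k hk
        exact (Subgroup.mem_centralizer_singleton_iff.1 (Subgroup.mem_inf.1 hk).2)
    have h2 : k ∈ (K ⊓ Subgroup.centralizer {z} : Subgroup G) := by
      rw [Subgroup.mem_inf, Subgroup.mem_centralizer_singleton_iff]
      exact ⟨hk, hkz⟩
    rw [h1] at h2
    exact Subgroup.mem_bot.1 h2
  -- C_K(b) = 1
  have hCb : ∀ k ∈ K, k * b = b * k → k = 1 := by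
    intro k hk hkb
    apply hCz k hk
    have h2 : k * z * k⁻¹ * z⁻¹ ∈ K := by
      have : k * z * k⁻¹ * z⁻¹ = k * (z * k⁻¹ * z⁻¹) := by group
      rw [this]
      exact mul_mem hk (conj_mem_of_normalizer (hn h.z_mem) (inv_mem hk))
    have h3 : k * z * k⁻¹ * z⁻¹ ∈ P := mul_mem (hPn k hkb z hz) (inv_mem hz)
    have h4 := eq_one_of_odd_of_two hK hP h2 h3
    have : k * z = (k * z * k⁻¹ * z⁻¹) * (z * k) := by group
    rw [this, h4, one_mul]
  have hiz := inv_of_fpf h.z_sq (fun k hk => conj_mem_of_normalizer (hn h.z_mem) hk) hCz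
  have hib := inv_of_fpf hb2 (fun k hk => conj_mem_of_normalizer (hn hb) hk) hCb
  -- find y
  have hy : ∃ y ∈ Q, b * y = z * (y * b) := by
    by_contra hne
    push Not at hne
    rcases h.cent b hb (fun y hy => by
      rcases h.comm b hb y hy with h1 | h1
      · exact h1
      · exact absurd h1 (hne y hy)) with h1 | h1
    · exact hb1 h1
    · exact hbz h1
  obtain ⟨y, hy, hby⟩ := hy
  rw [Subgroup.eq_bot_iff_forall]
  intro k hk
  have hbi : b⁻¹ = b := inv_eq_of_mul_eq_one_left hb2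
  have hzi : z⁻¹ = z := inv_eq_of_mul_eq_one_left h.z_sq
  -- z b = y⁻¹ b y
  have h7 : z * b = y⁻¹ * b * y := by
    have h8 := h.z_comm y hy
    calc z * b = y⁻¹ * (y * z) * b := by group
      _ = y⁻¹ * (z * y) * b := by rw [h8]
      _ = y⁻¹ * (z * (y * b)) := by group
      _ = y⁻¹ * (b * y) := by rw [hby]
      _ = y⁻¹ * b * y := by group
  have h9 : (z * b) * k * (z * b)⁻¹ = k := by
    calc (z * b) * k * (z * b)⁻¹ = z * (b * k * b⁻¹) * z⁻¹ := by group
      _ = z * k⁻¹ * z⁻¹ := by rw [hib k hk]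
      _ = k⁻¹⁻¹ := by rw [hiz _ (inv_mem hk)]
      _ = k := inv_inv k
  have h10 : (z * b) * k * (z * b)⁻¹ = k⁻¹ := by
    rw [h7]
    calc (y⁻¹ * b * y) * k * (y⁻¹ * b * y)⁻¹ = y⁻¹ * (b * (y * k * y⁻¹) * b⁻¹) * y := by group
      _ = y⁻¹ * (y * k * y⁻¹)⁻¹ * y := by rw [hib _ (conj_mem_of_normalizer (hn hy) hk)]
      _ = k⁻¹ := by group
  rw [h9] at h10
  have h11 : k * k = 1 := by
    nth_rewrite 2 [h10]
    exact mul_inv_cancel k
  have h12 : orderOf k ∣ 2 := orderOf_dvd_of_pow_eq_one (by rw [pow_two]; exact h11)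
  have h13 : orderOf k ∣ Nat.card K := by
    have := orderOf_dvd_natCard (⟨k, hk⟩ : K)
    rwa [Subgroup.orderOf_mk] at this
  have h14 : orderOf k ∣ 1 := by
    have h15 : Nat.Coprime (Nat.card K) 2 := Nat.coprime_two_right.2 hK
    rw [← h15.gcd_eq_one]
    exact Nat.dvd_gcd h13 h12
  exact orderOf_eq_one_iff.1 (Nat.dvd_one.1 h14)

end Cfsg.Agent.H29
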