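import Mathlib
import Cfsg.Prelude.Def_MonsterType
import Cfsg.Agent.H29.XS2
set_option autoImplicit false

namespace Cfsg.Agent.H29
open Subgroup
open scoped commutatorElement

/-- Type-level version: an extraspecial 2-group as the subgroup `⊤` of itself. -/
theorem xs_top {E : Type*} [Group E] [Finite E] (hE : Cfsg.IsExtraspecial 2 E) :
    ∃ z, XS (⊤ : Subgroup E) z := by
  have : Fact (Nat.Prime 2) := ⟨Nat.prime_two⟩
  obtain ⟨⟨hp, hf, hc⟩, hcard⟩ := hE
  have h1 : ∃ z : Subgroup.center E, z ≠ 1 := by
    have : Nontrivial (Subgroup.center E) := by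
      rw [← Finite.one_lt_card_iff_nontrivial, hcard]; norm_num
    exact exists_ne 1
  obtain ⟨z, hz⟩ := h1
  have hz2 : z * z = 1 := by
    have := pow_card_eq_one' (x := z)
    rw [hcard, pow_two] at this
    exact this
  have hall : ∀ x ∈ Subgroup.center E, x = 1 ∨ x = (z : E) := by
    intro x hx
    have h2 : (Subgroup.zpowers z) = ⊤ := by
      apply Subgroup.eq_top_of_card_eq
      rw [Nat.card_zpowers, hcard]
      exact orderOf_eq_prime (by rw [pow_two]; exact hz2) hz
    have h3 : (⟨x, hx⟩ : Subgroup.center E) ∈ Subgroup.zpowers z := by rw [h2]; trivial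
    rw [mem_zpowers_of_sq hz2] at h3
    rcases h3 with h3 | h3
    · left; exact congrArg Subtype.val h3
    · right; exact congrArg Subtype.val h3
  have hzv : (z : E) * (z : E) = 1 := congrArg Subtype.val hz2
  refine ⟨(z : E), hp.to_subgroup ⊤, ?_, hzv, trivial, ?_, ?_, ?_, ?_, ?_, ?_⟩
  · intro h
    apply hz
    apply Subtype.ext
    simpa using h
  · intro x _
    exact Subgroup.mem_center_iff.1 z.2 x
  · intro x _ hxy
    apply hall
    rw [Subgroup.mem_center_iff]
    intro y
    exact (hxy y trivial).symm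
  · intro x _ y _
    have h2 : ⁅x, y⁆ ∈ Subgroup.center E := by
      rw [← hc]
      exact Subgroup.commutator_mem_commutator (Subgroup.mem_top _) (Subgroup.mem_top _)
    have key : x * y = (x * y * x⁻¹ * y⁻¹) * (y * x) := by group
    rcases hall _ h2 with h3 | h3
    · left
      rw [commutatorElement_def] at h3
      rw [key, h3, one_mul]
    · right
      rw [commutatorElement_def] at h3
      rw [key, h3]
  · intro x _
    have h2 : x ^ 2 ∈ Subgroup.center E := by
      rw [← hf]
      exact pgroup_pow_mem_frattini hp _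
    rw [pow_two] at h2
    exact hall _ h2
  · by_contra hne
    push Not at hne
    have : commutator E = ⊥ := by
      rw [_root_.commutator_def, Subgroup.commutator_eq_bot_iff_le_centralizer]
      intro x _
      rw [Subgroup.mem_centralizer_iff]
      intro y _
      exact hne y trivial x trivial
    rw [hc] at this
    rw [this, Subgroup.card_bot] at hcard
    norm_num at hcard
  · ext x
    rw [mem_zpowers_of_sq hzv]
    constructor
    · rintro ⟨y, hy, rfl⟩
      have hy' := Subgroup.mem_center_iff.1 hy
      apply hall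
      rw [Subgroup.mem_center_iff]
      intro g
      exact congrArg Subtype.val (hy' ⟨g, Subgroup.mem_top g⟩)
    · rintro (rfl | rfl)
      · exact one_mem _
      · refine ⟨⟨(z : E), Subgroup.mem_top _⟩, ?_, rfl⟩
        apply Subgroup.mem_center_iff.2
        intro g
        apply Subtype.ext
        exact Subgroup.mem_center_iff.1 z.2 g

namespace XS
variable {G : Type*} [Group G] {Q : Subgroup G} {z : G}

theorem comm_mul (h : XS Q z) {x a b : G} (hx : x ∈ Q) (ha : a ∈ Q) (hb : b ∈ Q)
    (h1 : x * a ≠ a * x) (h2 : x * b ≠ b * x) : x * (a * b) = (a * b) * x := by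
  have h3 : x * a = z * (a * x) := (h.comm x hx a ha).resolve_left h1
  have h4 : x * b = z * (b * x) := (h.comm x hx b hb).resolve_left h2
  have h5 := h.z_comm a ha
  calc x * (a * b) = (x * a) * b := by group
    _ = z * (a * x) * b := by rw [h3]
    _ = z * a * (x * b) := by group
    _ = z * a * (z * (b * x)) := by rw [h4]
    _ = z * (a * z) * (b * x) := by group
    _ = z * (z * a) * (b * x) := by rw [h5]
    _ = (z * z) * a * b * x := by group
    _ = (a * b) * x := by rw [h.z_sq]; group

/-- The centralizer of an element of `Q` has index at most two in any subgroup of `Q`. -/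
theorem card_le_two_mul_cent (h : XS Q z) [Finite Q] {x : G} (hx : x ∈ Q) {A : Subgroup G} (hA : A ≤ Q) :
    Nat.card A ≤ 2 * Nat.card (A ⊓ Subgroup.centralizer {x} : Subgroup G) := by
  have hfA : Finite A := Finite.of_injective _ (Subgroup.inclusion_injective hA)
  by_cases hle : A ≤ Subgroup.centralizer {x}
  · rw [inf_eq_left.2 hle]; omega
  · obtain ⟨a, haA, hax⟩ := SetLike.not_le_iff_exists.1 hle
    have hax' : x * a ≠ a * x := by
      intro h1
      exact hax (Subgroup.mem_centralizer_singleton_iff.2 h1.symm)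
    have hidx : ((Subgroup.centralizer {x}).subgroupOf A).index = 2 := by
      rw [Subgroup.index_eq_two_iff]
      refine ⟨⟨a, haA⟩, ?_⟩
      intro b
      simp only [Subgroup.mem_subgroupOf, Subgroup.coe_mul, Subgroup.mem_centralizer_singleton_iff]
      by_cases hb : x * (b : G) = b * x
      · right
        refine ⟨hb.symm, ?_⟩
        intro h2
        apply hax'
        calc x * a = x * ((b : G)⁻¹ * (b * a)) := by group
          _ = (x * (b : G)⁻¹) * (b * a) := by group
          _ = ((b : G)⁻¹ * x) * (b * a) := by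
              congr 1
              rw [eq_inv_mul_iff_mul_eq, ← mul_assoc, ← hb]; group
          _ = (b : G)⁻¹ * (x * (b * a)) := by group
          _ = (b : G)⁻¹ * ((b * a) * x) := by rw [h2]
          _ = a * x := by group
      · left
        exact ⟨(h.comm_mul hx (hA b.2) (hA haA) hb hax').symm, fun h2 => hb h2.symm⟩
    have h3 := ((Subgroup.centralizer {x}).subgroupOf A).card_mul_index
    rw [hidx] at h3
    have h4 : Nat.card ((Subgroup.centralizer {x}).subgroupOf A) =
        Nat.card (A ⊓ Subgroup.centralizer {x} : Subgroup G) := by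
      rw [inf_comm, ← Subgroup.subgroupOf_map_subtype]
      exact (Nat.card_congr (((Subgroup.centralizer {x}).subgroupOf A).equivMapOfInjective A.subtype
        (Subgroup.subtype_injective A)).toEquiv)
    rw [h4] at h3
    omega

/-- `C_Q(H)` -/
def centIn (Q H : Subgroup G) : Subgroup G := Q ⊓ Subgroup.centralizer (H : Set G)

theorem mem_centIn {H : Subgroup G} {x : G} :
    x ∈ centIn Q H ↔ x ∈ Q ∧ ∀ y ∈ H, x * y = y * x := by
  unfold centIn
  rw [Subgroup.mem_inf, Subgroup.mem_centralizer_iff]
  constructor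
  · rintro ⟨h1, h2⟩; exact ⟨h1, fun y hy => (h2 y hy).symm⟩
  · rintro ⟨h1, h2⟩; exact ⟨h1, fun y hy => (h2 y hy).symm⟩

theorem cent_step (h : XS Q z) [Finite Q] {H K : Subgroup G} (hHK : H ≤ K) (hK : K ≤ Q)
    (hc : Nat.card K = 2 * Nat.card H) :
    Nat.card (centIn Q H) ≤ 2 * Nat.card (centIn Q K) := by
  have hfK : Finite K := Finite.of_injective _ (Subgroup.inclusion_injective hK)
  have hidx : (H.subgroupOf K).index = 2 := by
    have h1 := (H.subgroupOf K).card_mul_index
    have h2 : Nat.card (H.subgroupOf K) = Nat.card H :=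
      Nat.card_congr (Subgroup.subgroupOfEquivOfLe hHK).toEquiv
    rw [h2, hc] at h1
    have h3 : 0 < Nat.card H := by
      have : Finite H := Finite.of_injective _ (Subgroup.inclusion_injective hHK)
      exact Nat.card_pos
    have h4 : Nat.card H * (H.subgroupOf K).index = Nat.card H * 2 := by rw [h1, mul_comm]
    exact Nat.eq_of_mul_eq_mul_left h3 h4
  obtain ⟨x, hx⟩ := Subgroup.index_eq_two_iff.1 hidx
  have h1 := h.card_le_two_mul_cent (hK x.2) (A := centIn Q H) inf_le_left
  have h2 : (centIn Q H ⊓ Subgroup.centralizer {(x : G)} : Subgroup G) = centIn Q K := by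
    ext y
    rw [Subgroup.mem_inf, mem_centIn, mem_centIn, Subgroup.mem_centralizer_singleton_iff]
    constructor
    · rintro ⟨⟨hyQ, hyH⟩, hyx⟩
      refine ⟨hyQ, fun k hk => ?_⟩
      rcases hx ⟨k, hk⟩ with ⟨h3, _⟩ | ⟨h3, _⟩
      · have h4 : k * (x : G) ∈ H := h3
        have h5 := hyH _ h4
        calc y * k = (y * (k * x)) * (x : G)⁻¹ := by group
          _ = ((k * x) * y) * (x : G)⁻¹ := by rw [h5]
          _ = k * (x * y) * (x : G)⁻¹ := by group
          _ = k * (y * x) * (x : G)⁻¹ := by rw [hyx]
          _ = k * y := by group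
      · exact hyH _ h3
    · rintro ⟨hyQ, hyK⟩
      exact ⟨⟨hyQ, fun k hk => hyK k (hHK hk)⟩, hyK x x.2⟩
  rw [h2] at h1
  exact h1

theorem cent_mono_card (h : XS Q z) [Finite Q] : ∀ (n : ℕ) {H K : Subgroup G} (_ : H ≤ K) (_ : K ≤ Q),
    Nat.card K ≤ 2 ^ n * Nat.card H →
    Nat.card (centIn Q H) * Nat.card H ≤ Nat.card (centIn Q K) * Nat.card K := by
  have : Fact (Nat.Prime 2) := ⟨Nat.prime_two⟩
  intro n
  induction n with
  | zero =>
    intro H K hHK hK hc
    have hfK : Finite K := Finite.of_injective _ (Subgroup.inclusion_injective hK)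
    have : H = K := Subgroup.eq_of_le_of_card_ge hHK (by simpa using hc)
    rw [this]
  | succ n ih =>
    intro H K hHK hK hc
    by_cases heq : H = K
    · rw [heq]
    have hfK : Finite K := Finite.of_injective _ (Subgroup.inclusion_injective hK)
    -- find intermediate subgroup
    have hpK : IsPGroup 2 K := h.hp.to_le hK
    obtain ⟨k, hk⟩ := IsPGroup.iff_card.1 hpK
    obtain ⟨m, hm⟩ := IsPGroup.iff_card.1 (hpK.to_subgroup (H.subgroupOf K))
    have hHm : Nat.card H = 2 ^ m := by
      rw [← hm]
      exact (Nat.card_congr (Subgroup.subgroupOfEquivOfLe hHK).toEquiv).symm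
    have hmk : m < k := by
      rcases Nat.lt_or_ge m k with h1 | h1
      · exact h1
      · exfalso; apply heq
        apply Subgroup.eq_of_le_of_card_ge hHK
        rw [hk, hHm]
        exact Nat.pow_le_pow_right (by norm_num) h1
    obtain ⟨L, hL, hHL⟩ := Sylow.exists_subgroup_card_pow_succ (p := 2) (n := m) (by
      rw [hk]; exact pow_dvd_pow _ hmk) hm
    have hL' : Nat.card (L.map K.subtype) = 2 * Nat.card H := by
      rw [hHm, ← pow_succ', ← hL]
      exact (Nat.card_congr (L.equivMapOfInjective K.subtype (Subgroup.subtype_injective K)).toEquiv).symm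
    have hHL' : H ≤ L.map K.subtype := by
      intro y hy
      exact ⟨⟨y, hHK hy⟩, hHL hy, rfl⟩
    have hLK : L.map K.subtype ≤ K := by
      rintro _ ⟨y, _, rfl⟩
      exact y.2
    have h1 := ih hLK hK (by
      rw [hL']
      calc Nat.card K ≤ 2 ^ (n + 1) * Nat.card H := hc
        _ = 2 ^ n * (2 * Nat.card H) := by ring)
    have h2 := h.cent_step hHL' (hLK.trans hK) hL'
    calc Nat.card (centIn Q H) * Nat.card H ≤ 2 * Nat.card (centIn Q (L.map K.subtype)) * Nat.card H :=
          Nat.mul_le_mul_right _ h2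
      _ = Nat.card (centIn Q (L.map K.subtype)) * (2 * Nat.card H) := by ring
      _ = Nat.card (centIn Q (L.map K.subtype)) * Nat.card (L.map K.subtype) := by rw [hL']
      _ ≤ _ := h1

theorem card_zpowers (h : XS Q z) : Nat.card (Subgroup.zpowers z) = 2 := by
  rw [Nat.card_zpowers]
  exact orderOf_eq_prime (by rw [pow_two]; exact h.z_sq) h.z_ne

/-- Duality in an extraspecial group: `|C_Q(H)| |H| = 2 |Q|` for `z ∈ H ≤ Q`. -/
theorem card_cent_mul (h : XS Q z) [Finite Q] {H : Subgroup G} (hz : z ∈ H) (hH : H ≤ Q) :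
    Nat.card (centIn Q H) * Nat.card H = 2 * Nat.card Q := by
  have hle : ∀ K : Subgroup G, Nat.card Q ≤ 2 ^ (Nat.card Q) * Nat.card K ∨ Infinite K := by
    intro K
    rcases finite_or_infinite K with hf | hf
    · left
      have h1 : 0 < Nat.card K := Nat.card_pos
      calc Nat.card Q ≤ 2 ^ (Nat.card Q) := Nat.lt_two_pow_self.le
        _ ≤ _ := Nat.le_mul_of_pos_right _ h1
    · right; exact hf
  have hfH : Finite H := Finite.of_injective _ (Subgroup.inclusion_injective hH)
  have hzH : Subgroup.zpowers z ≤ H := by rwa [Subgroup.zpowers_le]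
  apply le_antisymm
  · have h1 := h.cent_mono_card (Nat.card Q) hH le_rfl ((hle H).resolve_right (by
      rw [not_infinite_iff_finite]; exact hfH))
    have h2 : centIn Q Q = Subgroup.zpowers z := by
      ext x
      rw [mem_centIn, mem_zpowers_of_sq h.z_sq]
      constructor
      · rintro ⟨h3, h4⟩; exact h.cent x h3 h4
      · rintro (rfl | rfl)
        · exact ⟨one_mem _, fun y _ => by simp⟩
        · exact ⟨h.z_mem, fun y hy => (h.z_comm y hy).symm⟩
    rw [h2, h.card_zpowers] at h1
    exact h1
  · have h1 := h.cent_mono_card (Nat.card H) hzH hH (by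
      rw [h.card_zpowers]
      calc Nat.card H ≤ 2 ^ (Nat.card H) := Nat.lt_two_pow_self.le
        _ ≤ _ := Nat.le_mul_of_pos_right _ (by norm_num))
    have h2 : centIn Q (Subgroup.zpowers z) = Q := by
      apply le_antisymm inf_le_left
      intro x hx
      apply mem_centIn.2
      refine ⟨hx, fun y hy => ?_⟩
      rcases (mem_zpowers_of_sq h.z_sq).1 hy with h3 | h3
      · rw [h3]; simp
      · rw [h3]; exact h.z_comm x hx
    rw [h2, h.card_zpowers] at h1
    rw [mul_comm 2]
    exact h1

/-- double centralizer -/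
theorem cent_cent (h : XS Q z) [Finite Q] {H : Subgroup G} (hz : z ∈ H) (hH : H ≤ Q) :
    centIn Q (centIn Q H) = H := by
  have h1 := h.card_cent_mul hz hH
  have hzc : z ∈ centIn Q H := by
    rw [mem_centIn]
    exact ⟨h.z_mem, fun y hy => (h.z_comm y (hH hy)).symm⟩
  have h2 := h.card_cent_mul hzc inf_le_left
  have h3 : H ≤ centIn Q (centIn Q H) := by
    intro x hx
    rw [mem_centIn]
    refine ⟨hH hx, fun y hy => ?_⟩
    exact ((mem_centIn.1 hy).2 x hx).symm
  have hf1 : Finite (centIn Q H) := Finite.of_injective _ (Subgroup.inclusion_injective inf_le_left)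
  have hf2 : Finite (centIn Q (centIn Q H)) :=
    Finite.of_injective _ (Subgroup.inclusion_injective inf_le_left)
  symm
  apply Subgroup.eq_of_le_of_card_ge h3
  have h4 : 0 < Nat.card (centIn Q H) := Nat.card_pos
  apply le_of_eq
  apply Nat.eq_of_mul_eq_mul_left h4
  rw [h1, ← h2, mul_comm]

end XS

end Cfsg.Agent.H29
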