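import Cfsg.Agent.H29.XS3
import Cfsg.Agent.H10.Comp

/-!
From elementwise facts to `IsExtraspecial`, and the generalized Fitting subgroup of a group with an
extraspecial normal subgroup and simple quotient.
-/
set_option autoImplicit false

namespace Cfsg.Agent.H29
open Cfsg
open scoped commutatorElement

theorem XS.mk' {G : Type*} [Group G] {Q : Subgroup G} {z : G}
    (hp : IsPGroup 2 Q) (z_ne : z ≠ 1) (z_sq : z * z = 1) (z_mem : z ∈ Q)
    (z_comm : ∀ x ∈ Q, x * z = z * x)
    (cent : ∀ x ∈ Q, (∀ y ∈ Q, x * y = y * x) → x = 1 ∨ x = z)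
    (comm : ∀ x ∈ Q, ∀ y ∈ Q, x * y = y * x ∨ x * y = z * (y * x))
    (sq : ∀ x ∈ Q, x * x = 1 ∨ x * x = z)
    (nonab : ∃ x ∈ Q, ∃ y ∈ Q, x * y ≠ y * x) : XS Q z where
  hp := hp
  z_ne := z_ne
  z_sq := z_sq
  z_mem := z_mem
  z_comm := z_comm
  cent := cent
  comm := comm
  sq := sq
  nonab := nonab
  center_eq := by
    ext y
    rw [mem_zpowers_of_sq z_sq]
    constructor
    · rintro ⟨⟨x, hx⟩, hy, rfl⟩
      apply cent x hx
      intro w hw
      exact (congrArg Subtype.val (Subgroup.mem_center_iff.1 hy ⟨w, hw⟩)).symm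
    · rintro (rfl | rfl)
      · exact one_mem _
      · refine ⟨⟨y, z_mem⟩, ?_, rfl⟩
        rw [SetLike.mem_coe, Subgroup.mem_center_iff]
        rintro ⟨w, hw⟩
        exact Subtype.ext (z_comm w hw)

theorem coatom_of_index_two {G : Type*} [Group G] {L : Subgroup G} (h : L.index = 2) :
    IsCoatom L := by
  refine ⟨fun ht => ?_, fun K hK => ?_⟩
  · rw [ht, Subgroup.index_top] at h
    omega
  · have h1 := Subgroup.relIndex_mul_index hK.le
    rw [h] at h1
    have h2 : K.index ∣ 2 := ⟨_, by rw [← h1, mul_comm]⟩
    rcases (Nat.dvd_prime Nat.prime_two).1 h2 with h3 | h3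
    · exact Subgroup.index_eq_one.1 h3
    · exfalso
      rw [h3] at h1
      have h4 : L.relIndex K = 1 := by omega
      exact hK.not_ge (Subgroup.relIndex_eq_one.1 h4)

theorem XS.isExtraspecial {G : Type*} [Group G] {Q : Subgroup G} [Finite Q] {z : G} (h : XS Q z) :
    IsExtraspecial 2 Q := by
  have : Fact (Nat.Prime 2) := ⟨Nat.prime_two⟩
  have hcen : ∀ q : Q, q ∈ Subgroup.center Q ↔ (q : G) = 1 ∨ (q : G) = z := by
    intro q
    rw [← mem_zpowers_of_sq h.z_sq, ← h.center_eq]
    constructor
    · intro h1; exact ⟨q, h1, rfl⟩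
    · rintro ⟨r, hr, hqr⟩
      have : r = q := Subtype.ext hqr
      rw [← this]; exact hr
  have hcomm : commutator Q = Subgroup.center Q := by
    apply le_antisymm
    · rw [_root_.commutator_def, Subgroup.commutator_le]
      intro a _ b _
      rw [hcen]
      have e : ((⁅a, b⁆ : Q) : G) = (a : G) * b * (a : G)⁻¹ * (b : G)⁻¹ := by
        rw [commutatorElement_def]; rfl
      rw [e]
      rcases h.comm a a.2 b b.2 with h1 | h1
      · left; rw [h1]; group
      · right; rw [h1]; group
    · obtain ⟨x, hx, y, hy, hxy⟩ := h.nonab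
      have h1 : x * y = z * (y * x) := (h.comm x hx y hy).resolve_left hxy
      have h2 : (⟨z, h.z_mem⟩ : Q) ∈ commutator Q := by
        have e : (⟨z, h.z_mem⟩ : Q) = ⁅(⟨x, hx⟩ : Q), ⟨y, hy⟩⁆ := by
          apply Subtype.ext
          rw [commutatorElement_def]
          show z = x * y * x⁻¹ * y⁻¹
          rw [h1]; group
        rw [e, _root_.commutator_def]
        exact Subgroup.commutator_mem_commutator (Subgroup.mem_top _) (Subgroup.mem_top _)
      intro q hq
      rcases (hcen q).1 hq with h3 | h3
      · have : q = 1 := Subtype.ext h3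
        rw [this]; exact one_mem _
      · have : q = ⟨z, h.z_mem⟩ := Subtype.ext h3
        rw [this]; exact h2
  refine ⟨⟨h.hp, ?_, hcomm⟩, ?_⟩
  · apply le_antisymm
    · intro q hq
      rw [Subgroup.mem_center_iff]
      intro r
      by_contra hne
      -- the centralizer of `r` is a maximal subgroup
      have hidx : (Subgroup.centralizer ({r} : Set Q)).index = 2 := by
        rw [Subgroup.index_eq_two_iff]
        refine ⟨q, ?_⟩
        intro b
        simp only [Subgroup.mem_centralizer_singleton_iff]
        have hq' : r * q ≠ q * r := hne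
        have hqG : (r : G) * q ≠ q * r := fun h1 => hq' (Subtype.ext h1)
        by_cases hb : b * r = r * b
        · right
          refine ⟨hb, ?_⟩
          intro h2
          apply hq'
          have h3 : b * (q * r) = b * (r * q) := by
            rw [← mul_assoc, h2, ← mul_assoc, ← mul_assoc, hb]
          exact (mul_left_cancel h3).symm
        · left
          refine ⟨?_, hb⟩
          have hb' : (r : G) * b ≠ b * r := fun h1 => hb (Subtype.ext h1).symm
          have h4 := h.comm_mul r.2 b.2 q.2 hb' hqG
          exact Subtype.ext h4.symm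
      have hcoatom : IsCoatom (Subgroup.centralizer ({r} : Set Q)) := by
        exact coatom_of_index_two hidx
      have h5 := (mem_frattini_iff.1 hq) _ hcoatom
      rw [Subgroup.mem_centralizer_singleton_iff] at h5
      exact hne h5.symm
    · rw [← hcomm]
      exact pgroup_commutator_le_frattini h.hp
  · have h1 : Nat.card (Subgroup.center Q) = Nat.card ((Subgroup.center Q).map Q.subtype) :=
      Nat.card_congr (Subgroup.equivMapOfInjective _ _ (Subgroup.subtype_injective Q)).toEquiv
    rw [h1, h.center_eq, h.card_zpowers]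

/-- the generalized Fitting subgroup -/
theorem fstar_eq {A S : Type*} [Group A] [Finite A] [Group S] [IsSimpleGroup S] (f : A →* S)
    (hf : Function.Surjective f) (h2 : IsPGroup 2 f.ker)
    (hS : ¬ Group.IsSolvable S) (hC : Subgroup.centralizer (f.ker : Set A) ≤ f.ker) :
    generalizedFittingSubgroup A = f.ker := by
  have : Fact (Nat.Prime 2) := ⟨Nat.prime_two⟩
  have hle : f.ker ≤ fittingSubgroup A :=
    Cfsg.Agent.H10.le_fitting inferInstance h2.isNilpotent
  have hlayer : layer A = ⊥ := by
    rw [← Cfsg.Agent.H10.centralizer_fitting_le_iff_layer_eq_bot]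
    intro x hx
    apply hle
    apply hC
    rw [Subgroup.mem_centralizer_iff] at hx ⊢
    exact fun y hy => hx y (hle hy)
  have hF : fittingSubgroup A = f.ker := by
    apply le_antisymm _ hle
    have hn : ((fittingSubgroup A).map f).Normal :=
      (Cfsg.Agent.H10.fitting_normal A).map f hf
    rcases hn.eq_bot_or_eq_top with h | h
    · rw [Subgroup.map_eq_bot_iff] at h
      exact h
    · exfalso
      apply hS
      have h3 := Cfsg.Agent.H10.fitting_isNilpotent A
      have h4 : Group.IsSolvable (fittingSubgroup A) := inferInstance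
      have h5 : Function.Surjective (f.comp (fittingSubgroup A).subtype) := by
        intro y
        have : y ∈ (fittingSubgroup A).map f := by rw [h]; trivial
        obtain ⟨x, hx, rfl⟩ := this
        exact ⟨⟨x, hx⟩, rfl⟩
      exact Group.isSolvable_of_surjective h5
  rw [generalizedFittingSubgroup, hlayer, bot_sup_eq, hF]

end Cfsg.Agent.H29
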