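import Cfsg.Agent.H29.Trans3

/-!
Octad stabilisers: restriction to the octad, pointwise stabiliser, complement.
-/
set_option autoImplicit false

namespace Cfsg.Agent.H29
open Cfsg Cfsg.Agent.H7
open scoped Pointwise

theorem oct0_pts {p : GolayPt} (hp : p ∈ toSet oct0) {σ : Equiv.Perm GolayPt} (hσ : σ ∈ SB 6) : σ p = p := by
  have h := SB6_fix hσ (gidx_lt p) (mem_toSet.1 hp)
  rwa [gpt_gidx] at h

/-- an element of `M24` fixing an octad pointwise and a further point is trivial -/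
theorem oct_fix_out {o : Finset GolayPt} (ho : o ∈ octads) {p : GolayPt} (hp : p ∉ o)
    {σ : Equiv.Perm GolayPt} (hσ : σ ∈ M24) (h1 : ∀ q ∈ o, σ q = q) (h2 : σ p = p) : σ = 1 := by
  apply M24_fix9 hσ
  have : insert p o ⊆ Finset.univ.filter fun p => σ p = p := by
    intro q hq
    rw [Finset.mem_filter]
    refine ⟨Finset.mem_univ _, ?_⟩
    rw [Finset.mem_insert] at hq
    rcases hq with rfl | hq
    · exact h2
    · exact h1 q hq
  refine le_trans ?_ (Finset.card_le_card this)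
  rw [Finset.card_insert_of_notMem hp, (mem_octads.1 ho).2]

/-- the pointwise stabiliser of an octad is transitive outside the octad -/
theorem oct_fix_trans {o : Finset GolayPt} (ho : o ∈ octads) {p q : GolayPt} (hp : p ∉ o) (hq : q ∉ o) :
    ∃ e ∈ M24, (∀ x ∈ o, e x = x) ∧ e p = q := by
  obtain ⟨σ, hσ, h⟩ := octad_transitive oct0_octad ho
  have key : ∀ r : GolayPt, r ∉ o → ∃ e ∈ SB 6, σ (e (bp 6)) = r := by
    intro r hr
    have h3 : σ⁻¹ r ∉ toSet oct0 := by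
      intro h'
      apply hr
      rw [← h]
      have : σ • (σ⁻¹ r) ∈ σ • toSet oct0 := (smul_mem_smul' σ _ _).2 h'
      simpa using this
    obtain ⟨τ, hτ, h4, h5⟩ := level_exists (k := 6) (by norm_num) (levelAll 6 (by norm_num))
      ((oct0_compl _).1 h3)
    refine ⟨τ, mem_SB.2 ⟨hτ, h4⟩, ?_⟩
    rw [h5]; exact σ.apply_symm_apply r
  obtain ⟨a, ha, ha'⟩ := key p hp
  obtain ⟨b, hb, hb'⟩ := key q hq
  have hab : b * a⁻¹ ∈ SB 6 := (SB 6).mul_mem hb ((SB 6).inv_mem ha)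
  refine ⟨σ * (b * a⁻¹) * σ⁻¹, M24.mul_mem (M24.mul_mem hσ (mem_SB.1 hab).1) (M24.inv_mem hσ), ?_, ?_⟩
  · intro x hx
    rw [← h] at hx
    obtain ⟨y, hy, rfl⟩ := Finset.mem_smul_finset.1 hx
    show σ ((b * a⁻¹) (σ⁻¹ (σ y))) = σ y
    rw [show σ⁻¹ (σ y) = y from σ.symm_apply_apply y, oct0_pts hy hab]
  · rw [← ha', ← hb']
    show σ (b (a⁻¹ (σ⁻¹ (σ (a (bp 6)))))) = _
    rw [show σ⁻¹ (σ (a (bp 6))) = a (bp 6) from σ.symm_apply_apply _,
      show a⁻¹ (a (bp 6)) = bp 6 from a.symm_apply_apply _]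

/-- the octad stabiliser -/
def HO (o : Finset GolayPt) : Subgroup (Equiv.Perm GolayPt) :=
  M24 ⊓ MulAction.stabilizer (Equiv.Perm GolayPt) o

theorem mem_HO {o : Finset GolayPt} {σ : Equiv.Perm GolayPt} : σ ∈ HO o ↔ σ ∈ M24 ∧ σ • o = o := Iff.rfl

theorem card_HO {o : Finset GolayPt} (ho : o ∈ octads) : Nat.card (HO o) = 322560 := by
  rw [← stab_octad ho]
  refine Nat.card_congr ⟨fun σ => ⟨⟨σ.1, σ.2.1⟩, σ.2.2⟩, fun σ => ⟨σ.1.1, σ.1.2, σ.2⟩, fun _ => rfl, fun _ => rfl⟩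

/-- pointwise stabiliser -/
def EO (o : Finset GolayPt) : Subgroup (Equiv.Perm GolayPt) :=
  M24 ⊓ fixingSubgroup (Equiv.Perm GolayPt) (o : Set GolayPt)

theorem mem_EO {o : Finset GolayPt} {σ : Equiv.Perm GolayPt} : σ ∈ EO o ↔ σ ∈ M24 ∧ ∀ p ∈ o, σ p = p := by
  unfold EO
  rw [Subgroup.mem_inf, mem_fixingSubgroup_iff]
  rfl

theorem fix_smul_eq {σ : Equiv.Perm GolayPt} {o : Finset GolayPt} (h : ∀ p ∈ o, σ p = p) : σ • o = o := by
  apply Finset.eq_of_subset_of_card_le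
  · intro x hx
    obtain ⟨y, hy, rfl⟩ := Finset.mem_smul_finset.1 hx
    show σ y ∈ o
    rw [h y hy]; exact hy
  · rw [Finset.card_smul_finset]

/-- stabiliser of an octad and a point -/
def LO (o : Finset GolayPt) (p : GolayPt) : Subgroup (Equiv.Perm GolayPt) :=
  M24 ⊓ MulAction.stabilizer (Equiv.Perm GolayPt) o ⊓ MulAction.stabilizer (Equiv.Perm GolayPt) p

theorem mem_LO {o : Finset GolayPt} {p : GolayPt} {σ : Equiv.Perm GolayPt} :
    σ ∈ LO o p ↔ (σ ∈ M24 ∧ σ • o = o) ∧ σ p = p := Iff.rfl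

theorem EO_inf_LO {o : Finset GolayPt} (ho : o ∈ octads) {p : GolayPt} (hp : p ∉ o) : EO o ⊓ LO o p = ⊥ := by
  rw [eq_bot_iff]
  rintro σ ⟨h1, h2⟩
  rw [Subgroup.mem_bot]
  exact oct_fix_out ho hp (mem_EO.1 h1).1 (mem_EO.1 h1).2 (mem_LO.1 h2).2

theorem not_mem_of_smul {σ : Equiv.Perm GolayPt} {o : Finset GolayPt} (h : σ • o = o) {p : GolayPt} (hp : p ∉ o) :
    σ p ∉ o := by
  intro h'
  exact hp ((mem_iff_of_smul_eq h p).1 h')

theorem EO_sup_LO {o : Finset GolayPt} (ho : o ∈ octads) {p : GolayPt} (hp : p ∉ o) : EO o ⊔ LO o p = HO o := by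
  apply le_antisymm
  · apply sup_le
    · intro σ hσ
      exact ⟨(mem_EO.1 hσ).1, fix_smul_eq (mem_EO.1 hσ).2⟩
    · exact inf_le_left
  · intro σ hσ
    obtain ⟨e, he, h1, h2⟩ := oct_fix_trans ho hp (not_mem_of_smul hσ.2 hp)
    have h3 : e⁻¹ * σ ∈ LO o p := by
      have e1 : e ∈ HO o := ⟨he, fix_smul_eq h1⟩
      refine ⟨(HO o).mul_mem ((HO o).inv_mem e1) hσ, ?_⟩
      show e⁻¹ (σ p) = p
      rw [← h2]; exact e.symm_apply_apply p
    have h4 : σ = e * (e⁻¹ * σ) := by rw [mul_inv_cancel_left]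
    rw [h4]
    exact (EO o ⊔ LO o p).mul_mem (Subgroup.mem_sup_left (mem_EO.2 ⟨he, h1⟩)) (Subgroup.mem_sup_right h3)

theorem card_LO {o : Finset GolayPt} (ho : o ∈ octads) {p : GolayPt} (hp : p ∉ o) : Nat.card (LO o p) = 20160 := by
  have h := card_step' (HO o) p {q | q ∉ o} (fun σ hσ => not_mem_of_smul hσ.2 hp)
    (fun q hq => by
      obtain ⟨e, he, h1, h2⟩ := oct_fix_trans ho hp hq
      exact ⟨e, ⟨he, fix_smul_eq h1⟩, h2⟩)
  rw [card_HO ho] at h
  have h2 : ({q | q ∉ o} : Set GolayPt).ncard = 16 := by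
    have e : ({q | q ∉ o} : Set GolayPt) = ((oᶜ : Finset GolayPt) : Set GolayPt) := by ext q; simp
    rw [e, Set.ncard_coe_finset, Finset.card_compl, (mem_octads.1 ho).2]
    rfl
  rw [h2] at h
  have h3 : Nat.card (LO o p) = Nat.card (HO o ⊓ MulAction.stabilizer (Equiv.Perm GolayPt) p : Subgroup (Equiv.Perm GolayPt)) := rfl
  omega

/-- restriction to the octad -/
def resO (o : Finset GolayPt) : HO o →* Equiv.Perm o where
  toFun σ := (σ : Equiv.Perm GolayPt).subtypePerm (mem_iff_of_smul_eq σ.2.2)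
  map_one' := by ext x; rfl
  map_mul' σ τ := by ext x; rfl

theorem resO_apply (o : Finset GolayPt) (σ : HO o) (x : o) : ((resO o σ x : o) : GolayPt) = (σ : Equiv.Perm GolayPt) x := rfl

theorem card_EO {o : Finset GolayPt} (ho : o ∈ octads) : Nat.card (EO o) = 16 := by
  obtain ⟨p, hp⟩ : ∃ p, p ∉ o := by
    by_contra hc
    push Not at hc
    have : o = Finset.univ := Finset.eq_univ_iff_forall.2 hc
    have h1 := (mem_octads.1 ho).2
    rw [this] at h1
    exact absurd h1 (by decide)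
  have h := card_step' (EO o) p {q | q ∉ o} (fun σ hσ => not_mem_of_smul (fix_smul_eq (mem_EO.1 hσ).2) hp)
    (fun q hq => by
      obtain ⟨e, he, h1, h2⟩ := oct_fix_trans ho hp hq
      exact ⟨e, mem_EO.2 ⟨he, h1⟩, h2⟩)
  have h2 : ({q | q ∉ o} : Set GolayPt).ncard = 16 := by
    have e : ({q | q ∉ o} : Set GolayPt) = ((oᶜ : Finset GolayPt) : Set GolayPt) := by ext q; simp
    rw [e, Set.ncard_coe_finset, Finset.card_compl, (mem_octads.1 ho).2]
    rfl
  have h3 : (EO o ⊓ MulAction.stabilizer (Equiv.Perm GolayPt) p : Subgroup (Equiv.Perm GolayPt)) = ⊥ := by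
    rw [eq_bot_iff]
    rintro σ ⟨h1, h2⟩
    exact oct_fix_out ho hp (mem_EO.1 h1).1 (mem_EO.1 h1).2 h2
  rw [h3, h2, Subgroup.card_bot, mul_one] at h
  exact h

theorem card_ker_resO {o : Finset GolayPt} (ho : o ∈ octads) : Nat.card (resO o).ker = 16 := by
  rw [← card_EO ho]
  refine Nat.card_congr ⟨fun σ => ⟨σ.1.1, ?_⟩, fun σ => ⟨⟨σ.1, (mem_EO.1 σ.2).1, fix_smul_eq (mem_EO.1 σ.2).2⟩, ?_⟩,
    fun _ => rfl, fun _ => rfl⟩
  · rw [mem_EO]
    refine ⟨σ.1.2.1, fun p hp => ?_⟩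
    have h := σ.2
    rw [MonoidHom.mem_ker] at h
    have h2 := congrArg (fun f : Equiv.Perm o => ((f ⟨p, hp⟩ : o) : GolayPt)) h
    exact h2
  · rw [MonoidHom.mem_ker]
    apply Equiv.ext
    intro x
    apply Subtype.ext
    exact (mem_EO.1 σ.2).2 x x.2

theorem range_resO {o : Finset GolayPt} (ho : o ∈ octads) : (resO o).range = alternatingGroup o := by
  apply Equiv.Perm.eq_alternatingGroup_of_index_eq_two
  have h1 := (resO o).ker.card_mul_index
  rw [Subgroup.index_ker, card_ker_resO ho, card_HO ho] at h1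
  have h2 := (resO o).range.card_mul_index
  have h3 : Nat.card (Equiv.Perm o) = 40320 := by
    rw [Nat.card_perm, Nat.card_eq_fintype_card, Fintype.card_coe, (mem_octads.1 ho).2]
    rfl
  rw [h3] at h2
  have h4 : Nat.card (resO o).range = 20160 := by omega
  rw [h4] at h2
  omega

end Cfsg.Agent.H29
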