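import Cfsg.Agent.H7.Conway8

/-!
Transitivity of `Co0` on pairs of minimal vectors.
-/
set_option autoImplicit false

namespace Cfsg.Agent.H29
open Cfsg Cfsg.Agent.H7
open scoped Pointwise

/-- two orthogonal congruent vectors of norm 8 -/
theorem frame2 (f1 f2 u : leechLattice) (h11 : bL f1 f1 = 8) (h22 : bL f2 f2 = 8)
    (h12 : bL f1 f2 = 0) (hu : f2 - f1 = (2 : ℤ) • u) :
    ∃ g : Co0, g • f1 = e8 (gpt 23) ∧ g • f2 = e8 (gpt 0) := by
  obtain ⟨f, hf, h3, -⟩ := leech_LLat.exists_frame' f1 h11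
  obtain ⟨i, hi⟩ := h3 f1 h11 ⟨0, by simp⟩
  obtain ⟨j, hj⟩ := h3 f2 h22 ⟨u, hu⟩
  obtain ⟨g, e, S, hg⟩ := frame_to_std hf
  have hij : i ≠ j := by
    rintro rfl
    have h5 := hf.norm i
    rcases hi with hi | hi <;> rcases hj with hj | hj <;> rw [hi, hj] at h12 <;>
      simp only [bL_neg, bL_neg_right, h5] at h12 <;> omega
  have hgi : g • f1 = e8 (e.symm i) ∨ g • f1 = - e8 (e.symm i) := by
    rcases hi with rfl | rfl
    · exact frame_img hf hg i
    · rw [co0_neg]
      rcases frame_img hf hg i with h | h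
      · right; rw [h]
      · left; rw [h, neg_neg]
  have hgj : g • f2 = e8 (e.symm j) ∨ g • f2 = - e8 (e.symm j) := by
    rcases hj with rfl | rfl
    · exact frame_img hf hg j
    · rw [co0_neg]
      rcases frame_img hf hg j with h | h
      · right; rw [h]
      · left; rw [h, neg_neg]
  have hij' : e.symm i ≠ e.symm j := fun h => hij (e.symm.injective h)
  obtain ⟨σ, hσ, hσi, hσj⟩ := M24_to_pair hij'
  have h1 : pmEl σ hσ • g • f1 = e8 (gpt 23) ∨ pmEl σ hσ • g • f1 = - e8 (gpt 23) := by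
    rcases hgi with h | h
    · left; rw [h, pmEl_e8, hσi]
    · right; rw [h, co0_neg, pmEl_e8, hσi]
  have h2 : pmEl σ hσ • g • f2 = e8 (gpt 0) ∨ pmEl σ hσ • g • f2 = - e8 (gpt 0) := by
    rcases hgj with h | h
    · left; rw [h, pmEl_e8, hσj]
    · right; rw [h, co0_neg, pmEl_e8, hσj]
  obtain ⟨c, hc, hc1, hc2⟩ := sign_two (pmEl σ hσ • g • f1 = - e8 (gpt 23))
    (pmEl σ hσ • g • f2 = - e8 (gpt 0))
  refine ⟨sgEl c hc * (pmEl σ hσ * g), ?_, ?_⟩
  · rw [mul_smul, mul_smul]
    by_cases h3 : pmEl σ hσ • g • f1 = - e8 (gpt 23)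
    · rw [h3, co0_neg, sgEl_e8, if_pos (hc1.2 h3), neg_neg]
    · rw [h1.resolve_right h3, sgEl_e8, if_neg (fun h4 => h3 (hc1.1 h4))]
  · rw [mul_smul, mul_smul]
    by_cases h3 : pmEl σ hσ • g • f2 = - e8 (gpt 0)
    · rw [h3, co0_neg, sgEl_e8, if_pos (hc2.2 h3), neg_neg]
    · rw [h2.resolve_right h3, sgEl_e8, if_neg (fun h4 => h3 (hc2.1 h4))]

/-- orthogonal pairs of minimal vectors -/
theorem orth_pair (v w : leechLattice) (hv : bL v v = 4) (hw : bL w w = 4) (hvw : bL v w = 0) :
    ∃ g : Co0, g • v = t2 ∧ g • w = a0 := by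
  have hwv : bL w v = 0 := by rw [bL_comm, hvw]
  obtain ⟨g, h1, h2⟩ := frame2 (v + w) (v - w) (-w)
    (by simp only [bL_add, bL_add_right, hv, hw, hvw, hwv]; norm_num)
    (by simp only [bL_sub, bL_sub_right, hv, hw, hvw, hwv]; norm_num)
    (by simp only [bL_add, bL_sub_right, hv, hw, hvw, hwv]; norm_num)
    (by rw [two_smul]; abel)
  refine ⟨g, ?_, ?_⟩
  · apply two_inj
    rw [two_t2, ← h1, ← h2, ← co0_add, ← co0_zsmul]
    congr 1
    rw [two_smul]; abel
  · apply two_inj
    rw [two_a0, ← h1, ← h2, ← co0_sub, ← co0_zsmul]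
    congr 1
    rw [two_smul]; abel

/-- an octad avoiding the first two points -/
def octA : ℕ := 4845570

theorem octA_octad : toSet octA ∈ octads := gRows_octads _ (by decide)
theorem octA_23 : gpt 23 ∉ toSet octA := by
  rw [gpt_mem_toSet (by norm_num)]; decide +kernel
theorem octA_0 : gpt 0 ∉ toSet octA := by
  rw [gpt_mem_toSet (by norm_num)]; decide +kernel
theorem octA_1 : gpt 1 ∈ toSet octA := by
  rw [gpt_mem_toSet (by norm_num)]; decide +kernel

/-- auxiliary vector -/
theorem neg2_aux (b : leechLattice) (hb : bL b b = 4) (hab : bL t2 b = -2) :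
    ∃ w : leechLattice, bL w w = 4 ∧ bL t2 w = 0 ∧ bL b w = -2 := by
  have hn : sqNorm (b : GolayPt → ℤ) = 32 := by rw [← bL_self, hb]; norm_num
  have hsum : (b : GolayPt → ℤ) (gpt 23) + (b : GolayPt → ℤ) (gpt 0) = -4 := by
    rw [← bL_e8_t2, bL_comm, hab]; norm_num
  set x := (b : GolayPt → ℤ) with hx
  have hne := g23_ne_g0
  have ha0 : bL t2 a0 = 0 := by
    have h4 := bL_e8_t2 a0
    rw [a0_apply, a0_apply, if_pos rfl, if_neg hne.symm, if_pos rfl] at h4
    rw [bL_comm]; omega
  have hfin : ∀ i j, i ≠ j → i ≠ gpt 23 → i ≠ gpt 0 → j ≠ gpt 23 → j ≠ gpt 0 →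
      |x i| + |x j| = 4 → ∃ w : leechLattice, bL w w = 4 ∧ bL t2 w = 0 ∧ bL b w = -2 := by
    intro i j hij hi1 hi2 hj1 hj2 habs
    obtain ⟨w, hw, h1, h2⟩ := exists_four b hij
    refine ⟨-w, neg_norm4 hw, ?_, ?_⟩
    · rw [bL_neg_right, bL_t2_zero (h2 _ hi1.symm hj1.symm) (h2 _ hi2.symm hj2.symm), neg_zero]
    · rw [bL_neg_right]
      have h3 : 2 * bL b w = |x i| + |x j| := h1
      omega
  rcases mem_leech_cases.mp b.2 with ⟨s, y, h1, h2, h3⟩ | ⟨s, y, h1, h2, h3⟩
  · -- even
    by_cases hs : s = ∅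
    · -- shape `(±4, ±4, 0)`
      subst hs
      have hd : ∀ i, (4 : ℤ) ∣ x i := by
        intro i
        have e1 : x i = 0 + 2 * ind ∅ i + 4 * y i := h2 i
        simp only [ind, Finset.notMem_empty, if_false] at e1
        exact ⟨y i, by omega⟩
      have hle : x (gpt 23) ^ 2 + x (gpt 0) ^ 2 ≤ 32 := by
        rw [← hn]
        unfold sqNorm
        have h5 : ∑ i ∈ ({gpt 23, gpt 0} : Finset GolayPt), x i ^ 2 ≤ ∑ i, x i ^ 2 :=
          Finset.sum_le_sum_of_subset_of_nonneg (Finset.subset_univ _)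
            (fun i _ _ => sq_nonneg _)
        rw [Finset.sum_pair hne] at h5
        exact h5
      obtain ⟨p, hp⟩ := hd (gpt 23)
      obtain ⟨q, hq⟩ := hd (gpt 0)
      have hpq : p + q = -1 := by omega
      have hpq2 : p ^ 2 + q ^ 2 ≤ 2 := by rw [hp, hq] at hle; nlinarith
      have hq' : q = -1 - p := by omega
      have hp' : p = 0 ∨ p = -1 := by
        rw [hq'] at hpq2
        have h6 : p ≤ 0 := by nlinarith
        have h7 : -1 ≤ p := by nlinarith
        omega
      have h4 := two_bL_pm b (gpt 23) (gpt 0)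
      have h5 : 2 * bL b a0 = x (gpt 23) - x (gpt 0) := h4
      rcases hp' with hp' | hp'
      · refine ⟨-a0, neg_norm4 (pm_norm hne), by rw [bL_neg_right, ha0, neg_zero], ?_⟩
        rw [bL_neg_right]
        omega
      · exact ⟨a0, pm_norm hne, ha0, by omega⟩
    · have h8 : 8 ≤ s.card := by
        have h4 := GC_weights s h1
        have h5 : s.card ≠ 0 := by rwa [Ne, Finset.card_eq_zero]
        omega
      obtain ⟨hs8, D, hD, hxD⟩ := shape_two (x := x) h8 (by
        intro i hi
        have h4 : x i = 0 + 2 * ind s i + 4 * y i := h2 i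
        rw [h4]; unfold ind; rw [if_pos hi]; omega) (by
        intro i
        have h4 : x i = 0 + 2 * ind s i + 4 * y i := h2 i
        rw [h4]; exact ⟨ind s i + 2 * y i, by ring⟩) hn
      have habs : ∀ i ∈ s, |x i| = 2 := by
        intro i hi
        rw [hxD]
        simp only [Pi.smul_apply, smul_eq_mul, sgnv_apply]
        unfold ind
        rw [if_pos hi]
        split_ifs <;> norm_num
      obtain ⟨i, hi, j, hj, hij, h5, h6, h7, h8'⟩ :=
        exists_two_of_six (s := s) (by omega) (gpt 23) (gpt 0)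
      exact hfin i j hij h5 h6 h7 h8' (by rw [habs i hi, habs j hj]; norm_num)
  · -- odd
    obtain ⟨j, hj⟩ := shape_odd (x := x) (by
      intro i
      have h4 : x i = 1 + 2 * ind s i + 4 * y i := h2 i
      rw [h4]; omega) hn
    have habs : ∀ i, |x i| = if i = j then 3 else 1 := by
      intro i; rw [hj]; exact oddv_abs _ _ _
    have hj' : j = gpt 23 ∨ j = gpt 0 := by
      by_contra hcon
      push Not at hcon
      have e1 := habs (gpt 23)
      have e2 := habs (gpt 0)
      rw [if_neg hcon.1.symm] at e1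
      rw [if_neg hcon.2.symm] at e2
      rcases abs_cases (x (gpt 23)) with ⟨h, _⟩ | ⟨h, _⟩ <;>
        rcases abs_cases (x (gpt 0)) with ⟨h', _⟩ | ⟨h', _⟩ <;> omega
    have hjO : j ∉ toSet octA := by
      rcases hj' with rfl | rfl
      · exact octA_23
      · exact octA_0
    -- the octad vector with signs opposite to `x`
    obtain ⟨u, hu, hu2⟩ := exists_octad_vec octA_octad
      (D0 := ((toSet octA).filter fun i => x i = 1).erase (gpt 1)) (q := gpt 1)
      (by
        intro i hi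
        exact (Finset.mem_filter.1 (Finset.mem_of_mem_erase hi)).1) octA_1
      (Finset.notMem_erase _ _)
    have hu0 : ∀ i, i ∉ toSet octA → (u : GolayPt → ℤ) i = 0 := by
      intro i hi
      have hi1 : i ≠ gpt 1 := by rintro rfl; exact hi octA_1
      rw [hu2 i hi1]
      unfold ind
      rw [if_neg hi, if_neg]
      · ring
      · intro h; exact hi (Finset.mem_filter.1 (Finset.mem_of_mem_erase h)).1
    have hxi : ∀ i ∈ toSet octA, x i = 1 ∨ x i = -1 := by
      intro i hi
      have h4 := habs i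
      rw [if_neg (by rintro rfl; exact hjO hi)] at h4
      rcases abs_cases (x i) with ⟨h, _⟩ | ⟨h, _⟩ <;> omega
    have hprod : ∀ i ∈ (toSet octA).erase (gpt 1), x i * (u : GolayPt → ℤ) i = -2 := by
      intro i hi
      have hi1 := Finset.ne_of_mem_erase hi
      have hi2 := Finset.mem_of_mem_erase hi
      rw [hu2 i hi1]
      unfold ind
      rw [if_pos hi2]
      rcases hxi i hi2 with h | h
      · rw [if_pos (by rw [Finset.mem_erase, Finset.mem_filter]; exact ⟨hi1, hi2, h⟩), h]
        norm_num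
      · rw [if_neg (by
          rw [Finset.mem_erase, Finset.mem_filter]
          rintro ⟨-, -, h4⟩
          rw [h] at h4; norm_num at h4), h]
        norm_num
    refine ⟨u, hu, bL_t2_zero (hu0 _ octA_23) (hu0 _ octA_0), ?_⟩
    have hdot : dotInt x (u : GolayPt → ℤ) = x (gpt 1) * (u : GolayPt → ℤ) (gpt 1) + -14 := by
      have h4 : dotInt x (u : GolayPt → ℤ) = ∑ i ∈ toSet octA, x i * (u : GolayPt → ℤ) i := by
        unfold dotInt
        symm
        apply Finset.sum_subset (Finset.subset_univ _)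
        intro i _ hi
        rw [hu0 i hi, mul_zero]
      rw [h4, ← Finset.add_sum_erase _ _ octA_1, Finset.sum_congr rfl hprod, Finset.sum_const,
        Finset.card_erase_of_mem octA_1, octA_octad.2]
      norm_num
    have h1x := hxi _ octA_1
    have h8 : 8 * bL b u = dotInt x (u : GolayPt → ℤ) := bL_mul b u
    -- `|u 1| ≤ 2` from the norm
    have hu1 : (u : GolayPt → ℤ) (gpt 1) ^ 2 = 4 := by
      have h9 := bL_self u
      rw [hu] at h9
      unfold sqNorm at h9
      have h10 : ∑ i, (u : GolayPt → ℤ) i ^ 2 = ∑ i ∈ toSet octA, (u : GolayPt → ℤ) i ^ 2 := by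
        symm
        apply Finset.sum_subset (Finset.subset_univ _)
        intro i _ hi
        rw [hu0 i hi]; norm_num
      have h11 : ∀ i ∈ (toSet octA).erase (gpt 1), (u : GolayPt → ℤ) i ^ 2 = 4 := by
        intro i hi
        have h12 := hprod i hi
        rcases hxi i (Finset.mem_of_mem_erase hi) with h | h
        · rw [h] at h12
          have : (u : GolayPt → ℤ) i = -2 := by omega
          rw [this]; norm_num
        · rw [h] at h12
          have : (u : GolayPt → ℤ) i = 2 := by omega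
          rw [this]; norm_num
      rw [h10, ← Finset.add_sum_erase _ _ octA_1, Finset.sum_congr rfl h11, Finset.sum_const,
        Finset.card_erase_of_mem octA_1, octA_octad.2] at h9
      norm_num at h9
      omega
    have hu1' : (u : GolayPt → ℤ) (gpt 1) = 2 ∨ (u : GolayPt → ℤ) (gpt 1) = -2 := by
      have : ((u : GolayPt → ℤ) (gpt 1) - 2) * ((u : GolayPt → ℤ) (gpt 1) + 2) = 0 := by
        ring_nf; omega
      rcases mul_eq_zero.1 this with h | h
      · left; omega
      · right; omega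
    rcases h1x with h | h <;> rcases hu1' with h' | h' <;> rw [hdot, h, h'] at h8 <;> omega

/-- shape of a minimal vector with coordinates `-4, 0` at two points -/
theorem shape_m4 (x : leechLattice) (hx : bL x x = 4) (h23 : (x : GolayPt → ℤ) (gpt 23) = -4)
    (h0 : (x : GolayPt → ℤ) (gpt 0) = 0) : ∃ k, k ≠ gpt 23 ∧ k ≠ gpt 0 ∧
      ((x : GolayPt → ℤ) k = 4 ∨ (x : GolayPt → ℤ) k = -4) ∧
      ∀ i, i ≠ gpt 23 → i ≠ k → (x : GolayPt → ℤ) i = 0 := by
  have hn : sqNorm (x : GolayPt → ℤ) = 32 := by rw [← bL_self, hx]; norm_num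
  rcases mem_leech_cases.mp x.2 with ⟨s, y, h1, h2, h3⟩ | ⟨s, y, h1, h2, h3⟩
  · have hs : s = ∅ := by
      by_contra hne
      have h8 : 8 ≤ s.card := by
        have h4 := GC_weights s h1
        have h5 : s.card ≠ 0 := by rwa [Ne, Finset.card_eq_zero]
        omega
      have h23s : gpt 23 ∉ s := by
        intro h
        have h4 := h2 (gpt 23)
        unfold ind at h4
        rw [if_pos h, h23] at h4
        omega
      have hge : ∀ i ∈ s, (4 : ℤ) ≤ (x : GolayPt → ℤ) i ^ 2 := by
        intro i hi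
        have h4 := h2 i
        unfold ind at h4
        rw [if_pos hi] at h4
        have h5 : (x : GolayPt → ℤ) i ≤ -2 ∨ 2 ≤ (x : GolayPt → ℤ) i := by omega
        rcases h5 with h5 | h5 <;> nlinarith
      have hsum : ∑ i ∈ insert (gpt 23) s, (x : GolayPt → ℤ) i ^ 2 ≤ 32 := by
        rw [← hn]
        exact Finset.sum_le_sum_of_subset_of_nonneg (Finset.subset_univ _)
            (fun i _ _ => sq_nonneg _)
      rw [Finset.sum_insert h23s, h23] at hsum
      have h6 : ∑ i ∈ s, (4 : ℤ) ≤ ∑ i ∈ s, (x : GolayPt → ℤ) i ^ 2 := Finset.sum_le_sum hge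
      rw [Finset.sum_const, nsmul_eq_mul] at h6
      have h7 : (8 : ℤ) ≤ s.card := by exact_mod_cast h8
      nlinarith
    subst hs
    have hxy : ∀ i, (x : GolayPt → ℤ) i = 4 * y i := by
      intro i
      have h4 := h2 i
      simp only [ind, Finset.notMem_empty, if_false] at h4
      omega
    have hy : sqNorm y = 2 := by
      have h4 : sqNorm (x : GolayPt → ℤ) = 16 * sqNorm y := by
        unfold sqNorm
        rw [Finset.mul_sum]
        apply Finset.sum_congr rfl
        intro i _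
        rw [hxy]; ring
      omega
    obtain ⟨S, D, hS, hD, hySD⟩ := shape_four hy
    have hyi : ∀ i, y i = if i ∈ S then (if i ∈ D then -1 else 1) else 0 := by
      intro i
      rw [hySD, sgnv_apply]
      unfold ind
      by_cases h4 : i ∈ S <;> by_cases h5 : i ∈ D
      · simp [h4, h5]
      · simp [h4, h5]
      · exact absurd (hD h5) h4
      · simp [h4, h5]
    have h23S : gpt 23 ∈ S := by
      by_contra h4
      have h5 := hxy (gpt 23)
      rw [h23, hyi, if_neg h4] at h5
      norm_num at h5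
    obtain ⟨k, hk, hSk⟩ : ∃ k, k ≠ gpt 23 ∧ S = {gpt 23, k} := by
      obtain ⟨a, b, hab, hSab⟩ := Finset.card_eq_two.1 hS
      rw [hSab, Finset.mem_insert, Finset.mem_singleton] at h23S
      rcases h23S with rfl | rfl
      · exact ⟨b, hab.symm, hSab⟩
      · exact ⟨a, hab, by rw [hSab, Finset.pair_comm]⟩
    refine ⟨k, hk, ?_, ?_, ?_⟩
    · rintro rfl
      have h5 := hxy (gpt 0)
      rw [h0, hyi, if_pos (by rw [hSk]; simp)] at h5
      split_ifs at h5 <;> norm_num at h5
    · rw [hxy, hyi, if_pos (by rw [hSk]; simp)]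
      split_ifs
      · right; norm_num
      · left; norm_num
    · intro i hi hik
      rw [hxy, hyi, if_neg (by rw [hSk]; simp [hi, hik])]
      norm_num
  · exfalso
    have h4 := h2 (gpt 0)
    rw [h0] at h4
    omega

theorem pm_apply (i j k : GolayPt) : (pm i j : GolayPt → ℤ) k =
    4 * ((if k = i then 1 else 0) - (if k = j then 1 else 0)) := by
  rw [pm_coe]
  show (4 : ℤ) * (ind {i} k - ind {j} k) = _
  rw [ind_single, ind_single]

theorem M24_to_triple {k : GolayPt} (h1 : k ≠ gpt 23) (h0 : k ≠ gpt 0) :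
    ∃ σ ∈ M24, σ (gpt 23) = gpt 23 ∧ σ (gpt 0) = gpt 0 ∧ σ k = gpt 1 := by
  have hne := g23_ne_g0
  have h123 : gpt 1 ≠ gpt 23 := by decide +kernel
  have h10 : gpt 1 ≠ gpt 0 := by decide +kernel
  obtain ⟨σ, hσ, h⟩ := M24_mapn (n := 3) (by norm_num) ![gpt 23, gpt 0, k]
    ![gpt 23, gpt 0, gpt 1] (by
      intro a b hab
      fin_cases a <;> fin_cases b <;> simp_all [eq_comm])
    (by
      intro a b hab
      fin_cases a <;> fin_cases b <;> simp_all [eq_comm])
  exact ⟨σ, hσ, h 0, h 1, h 2⟩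

/-- pairs of minimal vectors with inner product `-2` -/
theorem neg2_pair (v w : leechLattice) (hv : bL v v = 4) (hw : bL w w = 4) (hvw : bL v w = -2) :
    ∃ g : Co0, g • v = t2 ∧ g • w = pm (gpt 1) (gpt 23) := by
  obtain ⟨g1, hg1⟩ := to_t2 v hv
  have hb : bL (g1 • w) (g1 • w) = 4 := by rw [co0_bL, hw]
  have htb : bL t2 (g1 • w) = -2 := by rw [← hg1, co0_bL, hvw]
  obtain ⟨u, hu, htu, hbu⟩ := neg2_aux _ hb htb
  have ht : bL t2 t2 = 4 := pp_norm g23_ne_g0
  have hut : bL u t2 = 0 := by rw [bL_comm, htu]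
  obtain ⟨g2, h1, h2⟩ := frame2 (t2 + u) (t2 - u) (-u)
    (by simp only [bL_add, bL_add_right, ht, hu, htu, hut]; norm_num)
    (by simp only [bL_sub, bL_sub_right, ht, hu, htu, hut]; norm_num)
    (by simp only [bL_add, bL_sub_right, ht, hu, htu, hut]; norm_num)
    (by rw [two_smul]; abel)
  have hgt : g2 • t2 = t2 := by
    apply two_inj
    rw [two_t2, ← h1, ← h2, ← co0_add, ← co0_zsmul]
    congr 1
    rw [two_smul]; abel
  have hx : bL (g2 • g1 • w) (g2 • g1 • w) = 4 := by rw [co0_bL, hb]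
  have hbt : bL (g1 • w) t2 = -2 := by rw [bL_comm, htb]
  have h23 : ((g2 • g1 • w : leechLattice) : GolayPt → ℤ) (gpt 23) = -4 := by
    rw [← bL_e8, ← h1, co0_bL, bL_add_right, hbt, hbu]; norm_num
  have h0 : ((g2 • g1 • w : leechLattice) : GolayPt → ℤ) (gpt 0) = 0 := by
    rw [← bL_e8, ← h2, co0_bL, bL_sub_right, hbt, hbu]; norm_num
  obtain ⟨k, hk1, hk0, hk, hrest⟩ := shape_m4 _ hx h23 h0
  obtain ⟨σ, hσ, hσ23, hσ0, hσk⟩ := M24_to_triple hk1 hk0
  have hne := g23_ne_g0
  have h123 : gpt 1 ≠ gpt 23 := by decide +kernel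
  have h10 : gpt 1 ≠ gpt 0 := by decide +kernel
  set x := g2 • g1 • w with hxd
  have hσi : ∀ i, σ⁻¹ i = gpt 23 ↔ i = gpt 23 := fun i => by rw [Equiv.Perm.inv_eq_iff_eq, hσ23]
  have hσi0 : ∀ i, σ⁻¹ i = gpt 0 ↔ i = gpt 0 := fun i => by rw [Equiv.Perm.inv_eq_iff_eq, hσ0]
  have hσi1 : ∀ i, σ⁻¹ i = k ↔ i = gpt 1 := fun i => by rw [Equiv.Perm.inv_eq_iff_eq, hσk]
  have hσt : pmEl σ hσ • t2 = t2 := by
    apply Subtype.ext; funext i
    rw [pmEl_apply, t2_apply, t2_apply]
    simp only [hσi, hσi0]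
  have hσx : ∀ i, ((pmEl σ hσ • x : leechLattice) : GolayPt → ℤ) i =
      if i = gpt 23 then -4 else if i = gpt 1 then (x : GolayPt → ℤ) k else 0 := by
    intro i
    rw [pmEl_apply]
    by_cases hi : i = gpt 23
    · rw [if_pos hi, (hσi i).2 hi, h23]
    · rw [if_neg hi]
      by_cases hi1 : i = gpt 1
      · rw [if_pos hi1, (hσi1 i).2 hi1]
      · rw [if_neg hi1]
        exact hrest _ (fun h => hi ((hσi i).1 h)) (fun h => hi1 ((hσi1 i).1 h))
  rcases hk with hk | hk
  · refine ⟨pmEl σ hσ * (g2 * g1), ?_, ?_⟩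
    · rw [mul_smul, mul_smul, hg1, hgt, hσt]
    · rw [mul_smul, mul_smul, ← hxd]
      apply Subtype.ext; funext i
      rw [hσx, pm_apply, hk]
      by_cases hi : i = gpt 23
      · subst hi; rw [if_pos rfl, if_neg h123.symm, if_pos rfl]; norm_num
      · rw [if_neg hi, if_neg hi]
        by_cases hi1 : i = gpt 1
        · rw [if_pos hi1, if_pos hi1]; norm_num
        · rw [if_neg hi1, if_neg hi1]; norm_num
  · refine ⟨sgEl _ octA_octad.1 * (pmEl σ hσ * (g2 * g1)), ?_, ?_⟩
    · rw [mul_smul, mul_smul, mul_smul, hg1, hgt, hσt]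
      apply Subtype.ext; funext i
      rw [sgEl_apply, t2_apply]
      by_cases hi : i = gpt 23
      · subst hi
        unfold ind
        rw [if_neg octA_23, if_pos rfl]; norm_num
      · rw [if_neg hi]
        by_cases hi0 : i = gpt 0
        · subst hi0
          unfold ind
          rw [if_neg octA_0, if_pos rfl]; norm_num
        · rw [if_neg hi0, mul_zero]
    · rw [mul_smul, mul_smul, mul_smul, ← hxd]
      apply Subtype.ext; funext i
      rw [sgEl_apply, hσx, pm_apply, hk]
      by_cases hi : i = gpt 23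
      · subst hi
        unfold ind
        rw [if_pos rfl, if_neg h123.symm, if_pos rfl, if_neg octA_23]; norm_num
      · rw [if_neg hi, if_neg hi]
        by_cases hi1 : i = gpt 1
        · subst hi1
          unfold ind
          rw [if_pos rfl, if_pos rfl, if_pos octA_1]; norm_num
        · rw [if_neg hi1, if_neg hi1]; norm_num

end Cfsg.Agent.H29
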