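import Cfsg.Agent.H29.LeechMod

/-!
Stabilisers in `Co0` and `Co1` of the classes modulo two of short vectors of the Leech lattice.
-/
set_option autoImplicit false

namespace Cfsg.Agent.H29
open Cfsg Cfsg.Agent.H7
open scoped Pointwise

/-- stabiliser of a class modulo two -/
def CS (v : leechLattice) : Subgroup Co0 where
  carrier := {g | LCong (g • v) v}
  mul_mem' := by
    intro a b ha hb
    show LCong ((a * b) • v) v
    rw [mul_smul]
    exact ((show LCong (b • v) v from hb).smul a).trans ha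
  one_mem' := by show LCong _ _; rw [one_smul]; exact LCong.refl v
  inv_mem' := by
    intro a ha
    show LCong (a⁻¹ • v) v
    have := (ha : LCong (a • v) v).symm.smul a⁻¹
    rwa [inv_smul_smul] at this

theorem mem_CS {v : leechLattice} {g : Co0} : g ∈ CS v ↔ LCong (g • v) v := Iff.rfl

/-- the quotient map onto `Co1` -/
abbrev cq : Co0 →* Co1Q := QuotientGroup.mk' (Subgroup.center Co0)

theorem cq_eq_iff {g h : Co0} : cq g = cq h ↔ h = g ∨ h = negOne * g := by
  have hm : ∀ x : Co0, x ∈ Subgroup.center Co0 ↔ x = 1 ∨ x = negOne := by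
    intro x
    rw [← SetLike.mem_coe, center_set]; rfl
  show (QuotientGroup.mk g : Co1Q) = QuotientGroup.mk h ↔ _
  rw [QuotientGroup.eq, hm]
  have hz : ∀ x : Co0, x * negOne = negOne * x := fun x =>
    (Subgroup.mem_center_iff.1 negOne_center x)
  constructor
  · rintro (h1 | h1)
    · left; rw [inv_mul_eq_one] at h1; exact h1.symm
    · right; rw [inv_mul_eq_iff_eq_mul] at h1; rw [h1, hz]
  · rintro (rfl | rfl)
    · left; group
    · right; rw [← hz]; group

theorem cq_negOne (g : Co0) : cq (negOne * g) = cq g :=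
  (cq_eq_iff.2 (Or.inr rfl)).symm

theorem cq_surj : Function.Surjective cq := QuotientGroup.mk'_surjective _

theorem stab_simple {v : leechLattice} (hv : bL v v = 4 ∨ bL v v = 6) :
    IsSimpleGroup (MulAction.stabilizer Co0 v) ∧ 23 ∣ Nat.card (MulAction.stabilizer Co0 v) := by
  rcases hv with hv | hv
  · obtain ⟨g, hg⟩ := to_t2 v hv
    have e := MulAction.stabilizerEquivStabilizer (G := Co0) (a := v) (b := t2) hg.symm
    have := co2_simple
    refine ⟨isSimple_congr e, ?_⟩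
    rw [Nat.card_congr e.toEquiv, card_stab_t2]
    norm_num
  · obtain ⟨g, hg⟩ := to_t3 v hv
    have e := MulAction.stabilizerEquivStabilizer (G := Co0) (a := v) (b := t3) hg.symm
    have := co3_simple
    refine ⟨isSimple_congr e, ?_⟩
    rw [Nat.card_congr e.toEquiv, card_stab_t3]
    norm_num

theorem neg_ne_self {v : leechLattice} (hv : v ≠ 0) : -v ≠ v := by
  intro h
  apply hv
  have h1 : (2 : ℤ) * bL v v = 0 := by
    have := bL_neg v v
    rw [h] at this
    omega
  apply leech_LLat.eq_zero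
  omega

/-- the image in `Co1` of the stabiliser of a vector of norm 4 or 6 -/
theorem CS_small {v : leechLattice} (hv : bL v v = 4 ∨ bL v v = 6) {g : Co0} :
    g ∈ CS v ↔ g • v = v ∨ g • v = -v := by
  rw [mem_CS]
  constructor
  · intro h
    rcases short_cong' (by rw [co0_bL]; omega) (by omega) h with h1 | h1 | h1
    · exact Or.inl h1
    · exact Or.inr h1
    · omega
  · rintro (h | h)
    · rw [h]; exact LCong.refl v
    · rw [h]; exact LCong.neg v

/-- the injection of the stabiliser of `v` in `Co1` -/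
def stHom (v : leechLattice) : MulAction.stabilizer Co0 v →* Co1Q :=
  cq.comp (MulAction.stabilizer Co0 v).subtype

theorem stHom_injective {v : leechLattice} (hv : v ≠ 0) : Function.Injective (stHom v) := by
  intro g h hgh
  have h1 : cq (g : Co0) = cq (h : Co0) := hgh
  rw [cq_eq_iff] at h1
  rcases h1 with h1 | h1
  · exact Subtype.ext h1.symm
  · exfalso
    have h2 : (h : Co0) • v = v := h.2
    have h3 : (g : Co0) • v = v := g.2
    rw [h1, mul_smul, h3, negOne_smul] at h2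
    exact neg_ne_self hv h2

theorem stHom_range {v : leechLattice} (hv : bL v v = 4 ∨ bL v v = 6) :
    (stHom v).range = (CS v).map cq := by
  ext x
  constructor
  · rintro ⟨g, rfl⟩
    exact ⟨g, (CS_small hv).2 (Or.inl g.2), rfl⟩
  · rintro ⟨g, hg, rfl⟩
    rcases (CS_small hv).1 hg with h | h
    · exact ⟨⟨g, h⟩, rfl⟩
    · refine ⟨⟨negOne * g, ?_⟩, cq_negOne g⟩
      rw [MulAction.mem_stabilizer_iff, mul_smul, h, negOne_smul, neg_neg]

theorem pgroup_not_dvd {P : Type*} [Group P] [Finite P] (h : IsPGroup 2 P) {r : ℕ} (hr : r.Prime)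
    (hr2 : r ≠ 2) (hd : r ∣ Nat.card P) : False := by
  have : Fact (Nat.Prime 2) := ⟨Nat.prime_two⟩
  obtain ⟨n, hn⟩ := IsPGroup.iff_card.1 h
  rw [hn] at hd
  exact hr2 ((Nat.prime_dvd_prime_iff_eq hr Nat.prime_two).1 (hr.dvd_of_dvd_pow hd))

theorem small_bound {v : leechLattice} (hv : bL v v = 4 ∨ bL v v = 6) (P : Subgroup Co1Q)
    (hP : IsPGroup 2 P) (hle : P ≤ (CS v).map cq)
    (hn : ∀ x ∈ (CS v).map cq, ∀ y ∈ P, x * y * x⁻¹ ∈ P) : P = ⊥ := by
  obtain ⟨hs, h23⟩ := stab_simple hv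
  have hv0 : v ≠ 0 := by
    rcases hv with h | h
    · exact ne_zero_of_norm h (by norm_num)
    · exact ne_zero_of_norm h (by norm_num)
  have hinj := stHom_injective hv0
  have hrange := stHom_range hv
  have hnorm : (P.comap (stHom v)).Normal := by
    constructor
    intro y hy g
    rw [Subgroup.mem_comap] at hy ⊢
    rw [map_mul, map_mul, map_inv]
    exact hn _ (by rw [← hrange]; exact ⟨g, rfl⟩) _ hy
  rcases hs.eq_bot_or_eq_top_of_normal _ hnorm with h | h
  · rw [Subgroup.eq_bot_iff_forall]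
    intro x hx
    have h1 := hle hx
    rw [← hrange] at h1
    obtain ⟨g, rfl⟩ := h1
    have h2 : g ∈ P.comap (stHom v) := hx
    rw [h, Subgroup.mem_bot] at h2
    rw [h2, map_one]
  · exfalso
    have h1 : IsPGroup 2 (MulAction.stabilizer Co0 v) := by
      intro g
      have hg : stHom v g ∈ P := by
        have : g ∈ P.comap (stHom v) := by rw [h]; trivial
        exact this
      obtain ⟨k, hk⟩ := hP ⟨_, hg⟩
      refine ⟨k, hinj ?_⟩
      rw [map_pow, map_one]
      exact congrArg Subtype.val hk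
    exact pgroup_not_dvd h1 (by norm_num) (by norm_num) h23

/-! ### the monomial group -/

theorem mem_CS_e8 {g : Co0} : g ∈ CS (e8 none) ↔ IsMono g := by
  constructor
  · intro h
    obtain ⟨u, hu⟩ := lcong_iff.1 (mem_CS.1 h)
    obtain ⟨j, hj⟩ := std_class (y := g • e8 none) (by rw [co0_bL]; exact e8_frame.norm none) hu
    exact mono_of_map hj
  · intro h
    obtain ⟨j, hj⟩ := h none
    rw [mem_CS]
    have h1 : LCong (e8 j) (e8 none) := lcong_iff.2 (e8_frame.cong j none)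
    rcases hj with hj | hj
    · rw [hj]; exact h1
    · rw [hj]; exact (LCong.neg _).trans h1

theorem exists_form (g : CS (e8 none)) : ∃ (σ : M24) (c : Finset GolayPt) (hc : c ∈ GC),
    (g : Co0) = sgEl c hc * pmEl σ σ.2 := by
  obtain ⟨σ, hσ, c, hc, h⟩ := mono_form (mem_CS_e8.1 g.2)
  exact ⟨⟨σ, hσ⟩, c, hc, h⟩

/-- the underlying permutation -/
noncomputable def permOf (g : CS (e8 none)) : M24 := (exists_form g).choose

theorem permOf_spec (g : CS (e8 none)) : ∃ (c : Finset GolayPt) (hc : c ∈ GC),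
    (g : Co0) = sgEl c hc * pmEl (permOf g) (permOf g).2 := (exists_form g).choose_spec

theorem permOf_eq {g : CS (e8 none)} {σ : Equiv.Perm GolayPt} (hσ : σ ∈ M24)
    {c : Finset GolayPt} (hc : c ∈ GC) (h : (g : Co0) = sgEl c hc * pmEl σ hσ) :
    permOf g = ⟨σ, hσ⟩ := by
  obtain ⟨d, hd, h'⟩ := permOf_spec g
  rw [h] at h'
  exact Subtype.ext (sg_pm_inj h').1.symm

theorem sg_mul {c d : Finset GolayPt} (hc : c ∈ GC) (hd : d ∈ GC) :
    sgEl c hc * sgEl d hd = sgEl (symmDiff c d) (GC_symmDiff hc hd) := by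
  apply co0_ext_e8
  intro i
  rw [mul_smul, sgEl_e8, sgEl_e8]
  by_cases h1 : i ∈ c <;> by_cases h2 : i ∈ d <;>
    simp [h1, h2, Finset.mem_symmDiff, co0_neg, sgEl_e8]

/-- the homomorphism of the monomial group onto `M24` -/
noncomputable def permHom24 : CS (e8 none) →* M24 := MonoidHom.mk' permOf (by
  intro g h
  obtain ⟨c, hc, h1⟩ := permOf_spec g
  obtain ⟨d, hd, h2⟩ := permOf_spec h
  have h3 : ((g * h : CS (e8 none)) : Co0) =
      sgEl (symmDiff c ((permOf g : Equiv.Perm GolayPt) • d))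
        (GC_symmDiff hc (M24_smul_mem (permOf g).2 hd)) *
      pmEl ((permOf g : Equiv.Perm GolayPt) * permOf h)
        (M24.mul_mem (permOf g).2 (permOf h).2) := by
    rw [Subgroup.coe_mul, h1, h2, mul_assoc, ← mul_assoc (pmEl _ _) (sgEl _ _), pm_sg_comm,
      mul_assoc (sgEl _ _) (pmEl _ _), pmEl_mul, ← mul_assoc, sg_mul]
  exact permOf_eq _ _ h3)

theorem permHom24_apply (g : CS (e8 none)) : permHom24 g = permOf g := rfl

theorem sgEl_mono {c : Finset GolayPt} (hc : c ∈ GC) : sgEl c hc ∈ CS (e8 none) := by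
  rw [mem_CS_e8]
  intro i
  refine ⟨i, ?_⟩
  rw [sgEl_e8]
  split_ifs
  · right; rfl
  · left; rfl

theorem pmEl_mono {σ : Equiv.Perm GolayPt} (hσ : σ ∈ M24) : pmEl σ hσ ∈ CS (e8 none) := by
  rw [mem_CS_e8]
  intro i
  exact ⟨σ i, Or.inl (pmEl_e8 hσ i)⟩

theorem pmEl_one : pmEl 1 M24.one_mem = 1 := by
  apply co0_ext_e8
  intro i
  rw [pmEl_e8, one_smul]; rfl

theorem permOf_pmEl {σ : Equiv.Perm GolayPt} (hσ : σ ∈ M24) :
    permOf ⟨pmEl σ hσ, pmEl_mono hσ⟩ = ⟨σ, hσ⟩ := by
  apply permOf_eq hσ GC_empty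
  rw [sgEl_empty, one_mul]

theorem permOf_eq_one {g : CS (e8 none)} (h : permOf g = 1) :
    ∃ (c : Finset GolayPt) (hc : c ∈ GC), (g : Co0) = sgEl c hc := by
  obtain ⟨c, hc, h1⟩ := permOf_spec g
  refine ⟨c, hc, ?_⟩
  rw [h1]
  have h2 : pmEl (permOf g : Equiv.Perm GolayPt) (permOf g).2 = pmEl 1 M24.one_mem := by
    congr 1
    rw [h]; rfl
  rw [h2, pmEl_one, mul_one]

/-- the sign group -/
def Sg : Subgroup Co0 where
  carrier := {g | ∃ (c : Finset GolayPt) (hc : c ∈ GC), g = sgEl c hc}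
  mul_mem' := by
    rintro _ _ ⟨c, hc, rfl⟩ ⟨d, hd, rfl⟩
    exact ⟨_, _, sg_mul hc hd⟩
  one_mem' := ⟨∅, GC_empty, sgEl_empty.symm⟩
  inv_mem' := by
    rintro _ ⟨c, hc, rfl⟩
    refine ⟨c, hc, ?_⟩
    rw [inv_eq_iff_mul_eq_one, sg_mul]
    have h : symmDiff c c = ∅ := symmDiff_self c
    have h2 : sgEl (symmDiff c c) (GC_symmDiff hc hc) = sgEl ∅ GC_empty := by
      congr 1
    rw [h2, sgEl_empty]

theorem mem_Sg {g : Co0} : g ∈ Sg ↔ ∃ (c : Finset GolayPt) (hc : c ∈ GC), g = sgEl c hc := Iff.rfl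

theorem sgEl_sq {c : Finset GolayPt} (hc : c ∈ GC) : sgEl c hc * sgEl c hc = 1 := by
  rw [sg_mul]
  have h2 : sgEl (symmDiff c c) (GC_symmDiff hc hc) = sgEl ∅ GC_empty := by
    congr 1
    exact symmDiff_self c
  rw [h2, sgEl_empty]

theorem negOne_mem_Sg : negOne ∈ Sg := ⟨_, GC_univ, rfl⟩

/-- normal 2-subgroups of the monomial group -/
theorem mono_bound (P : Subgroup Co0) (hP : IsPGroup 2 P) (hle : P ≤ CS (e8 none))
    (hn : ∀ x ∈ CS (e8 none), ∀ y ∈ P, x * y * x⁻¹ ∈ P) : P ≤ Sg := by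
  have hs := M24_simple
  set K : Subgroup M24 := (P.subgroupOf (CS (e8 none))).map permHom24 with hK
  have hnorm : K.Normal := by
    constructor
    rintro _ ⟨y, hy, rfl⟩ g
    refine ⟨⟨pmEl g g.2, pmEl_mono g.2⟩ * y * ⟨pmEl g g.2, pmEl_mono g.2⟩⁻¹, ?_, ?_⟩
    · exact hn _ (pmEl_mono g.2) _ hy
    · rw [map_mul, map_mul, map_inv, permHom24_apply ⟨pmEl g g.2, pmEl_mono g.2⟩, permOf_pmEl]
  have hK2 : IsPGroup 2 K := by
    have h1 : IsPGroup 2 (P.subgroupOf (CS (e8 none))) := by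
      intro g
      obtain ⟨k, hk⟩ := hP ⟨_, g.2⟩
      refine ⟨k, ?_⟩
      apply Subtype.ext; apply Subtype.ext
      have := congrArg Subtype.val hk
      simpa using this
    exact h1.map _
  rcases hs.eq_bot_or_eq_top_of_normal _ hnorm with h | h
  · intro x hx
    have h1 : permHom24 ⟨x, hle hx⟩ ∈ K := ⟨⟨x, hle hx⟩, hx, rfl⟩
    rw [h, Subgroup.mem_bot] at h1
    obtain ⟨c, hc, h2⟩ := permOf_eq_one h1
    exact ⟨c, hc, h2⟩
  · exfalso
    have h1 : 23 ∣ Nat.card K := by
      rw [h, Nat.card_congr Subgroup.topEquiv.toEquiv, card_M24]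
      norm_num
    exact pgroup_not_dvd hK2 (by norm_num) (by norm_num) h1

end Cfsg.Agent.H29
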