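import Cfsg.Agent.H7.Conway5

/-!
The Leech lattice modulo two: short representatives, counting of classes.
-/
set_option autoImplicit false

namespace Cfsg.Agent.H29
open Cfsg Cfsg.Agent.H7

/-- congruence modulo twice the lattice -/
def LCong (v w : leechLattice) : Prop := ∃ u : leechLattice, v - w = u + u

theorem lcong_iff {v w : leechLattice} : LCong v w ↔ ∃ u : leechLattice, v - w = (2 : ℤ) • u := by
  unfold LCong
  simp only [two_smul]

theorem LCong.refl (v : leechLattice) : LCong v v := ⟨0, by simp⟩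
theorem LCong.symm {v w : leechLattice} (h : LCong v w) : LCong w v := by
  obtain ⟨u, hu⟩ := h
  exact ⟨-u, by rw [← neg_sub, hu]; abel⟩
theorem LCong.trans {u v w : leechLattice} (h : LCong u v) (h' : LCong v w) : LCong u w := by
  obtain ⟨a, ha⟩ := h
  obtain ⟨b, hb⟩ := h'
  exact ⟨a + b, by rw [← sub_add_sub_cancel u v w, ha, hb]; abel⟩
theorem LCong.neg (v : leechLattice) : LCong (-v) v := ⟨-v, by abel⟩
theorem LCong.smul {v w : leechLattice} (h : LCong v w) (g : Co0) : LCong (g • v) (g • w) := by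
  obtain ⟨u, hu⟩ := h
  exact ⟨g • u, by rw [← co0_sub, hu, co0_add]⟩
theorem LCong.add {a b c d : leechLattice} (h : LCong a b) (h' : LCong c d) :
    LCong (a + c) (b + d) := by
  obtain ⟨u, hu⟩ := h
  obtain ⟨v, hv⟩ := h'
  exact ⟨u + v, by rw [add_sub_add_comm, hu, hv]; abel⟩
theorem lcong_smul_iff {v w : leechLattice} (g : Co0) : LCong (g • v) (g • w) ↔ LCong v w := by
  constructor
  · intro h
    have := h.smul g⁻¹
    rwa [inv_smul_smul, inv_smul_smul] at this
  · intro h; exact h.smul g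

/-- half the norm modulo two is an invariant of the class -/
theorem qf_cong {v w : leechLattice} (h : LCong v w) : (4 : ℤ) ∣ bL v v - bL w w := by
  obtain ⟨u, hu⟩ := h
  have e : v = w + (u + u) := by rw [← hu]; abel
  rw [e]
  simp only [bL_add, bL_add_right, bL_comm u w]
  have h1 := leech_LLat.even w
  ring_nf
  refine Dvd.dvd.add ?_ ?_ <;> exact Dvd.intro_left _ rfl

theorem bL_even (v : leechLattice) : (2 : ℤ) ∣ bL v v := leech_LLat.even v

/-- the bilinear form modulo two -/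
theorem bL_cong {v w : leechLattice} (h : LCong v w) (x : leechLattice) :
    (2 : ℤ) ∣ bL v x - bL w x := by
  obtain ⟨u, hu⟩ := h
  rw [← bL_sub, hu, bL_add]
  exact ⟨bL u x, by ring⟩

theorem norm_cases_small {v : leechLattice} (h : bL v v < 8) :
    v = 0 ∨ bL v v = 4 ∨ bL v v = 6 := by
  by_cases h0 : v = 0
  · exact Or.inl h0
  · have h1 := leech_LLat.min v h0
    have h2 := bL_even v
    omega

set_option maxRecDepth 100000 in
/-- the four layers cover all classes; with the sizes of their images -/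
theorem layers (κ : leechLattice →+ (Fin 24 → ZMod 2))
    (hκ : ∀ x, κ x = 0 ↔ ∃ u, x = (2 : ℤ) • u) :
    (κ '' {x | bL x x = 4} ∪ κ '' {x | bL x x = 6} ∪ κ '' {x | bL x x = 8} ∪ {0} = Set.univ) ∧
    (κ '' {x | bL x x = 4}).ncard = 98280 ∧ (κ '' {x | bL x x = 6}).ncard = 8386560 ∧
    (κ '' {x | bL x x = 8}).ncard = 8292375 := by
  have hL := leech_LLat
  have h4 := hL.two_fiber κ hκ 4 (by norm_num) hL.fin4
  have h6 := hL.two_fiber κ hκ 6 (by norm_num) hL.fin6
  rw [hL.c4] at h4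
  rw [hL.c6] at h6
  have h8 := ncard_fiber_le hL.fin8 κ 48 (by
    intro c _
    obtain ⟨R', h1', h2', h3'⟩ := hL.class_rep κ hκ c
    have := hL.class8_le κ hκ c h1' h2' h3'
    have := hL.orth_rep_le h1' h2'
    omega)
  rw [hL.c8] at h8
  have hdis : ∀ m n : ℤ, 0 < m → m ≤ 8 → n ≤ 8 → m ≠ n →
      Disjoint (κ '' {x | bL x x = m}) (κ '' {x | bL x x = n}) := by
    intro m n hm0 hm hn hmn
    rw [Set.disjoint_left]
    rintro _ ⟨x, hx, rfl⟩ ⟨y, hy, hxy⟩
    have hx' : bL x x = m := hx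
    have hy' : bL y y = n := hy
    have h2 : κ (x - y) = 0 := by rw [map_sub, hxy, sub_self]
    obtain ⟨u, hu⟩ := (hκ _).mp h2
    rcases hL.short_cong (by omega) (by omega) hu with h | h | h
    · rw [h] at hx'; omega
    · rw [h, hL.neg_left, hL.neg_right, neg_neg] at hx'; omega
    · omega
  have h0 : κ '' {x | bL x x = 0} = {0} := by
    ext c
    constructor
    · rintro ⟨x, hx, rfl⟩
      rw [hL.eq_zero hx, map_zero]; rfl
    · rintro rfl
      exact ⟨0, hL.zero_left 0, map_zero κ⟩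
  have d1 := hdis 4 0 (by norm_num) (by norm_num) (by norm_num) (by norm_num)
  have d2 := hdis 6 0 (by norm_num) (by norm_num) (by norm_num) (by norm_num)
  have d3 := hdis 8 0 (by norm_num) (by norm_num) (by norm_num) (by norm_num)
  have d4 := hdis 4 6 (by norm_num) (by norm_num) (by norm_num) (by norm_num)
  have d5 := hdis 4 8 (by norm_num) (by norm_num) (by norm_num) (by norm_num)
  have d6 := hdis 6 8 (by norm_num) (by norm_num) (by norm_num) (by norm_num)
  rw [h0] at d1 d2 d3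
  have hu := Set.ncard_le_card (κ '' {x | bL x x = 4} ∪ κ '' {x | bL x x = 6} ∪
    κ '' {x | bL x x = 8} ∪ {0})
  have hcard : Nat.card (Fin 24 → ZMod 2) = 16777216 := by
    rw [Nat.card_eq_fintype_card, Fintype.card_fun, ZMod.card, Fintype.card_fin]
    norm_num
  have hsum : (κ '' {x | bL x x = 4} ∪ κ '' {x | bL x x = 6} ∪
    κ '' {x | bL x x = 8} ∪ {0}).ncard = (κ '' {x | bL x x = 4}).ncard +
      (κ '' {x | bL x x = 6}).ncard + (κ '' {x | bL x x = 8}).ncard + 1 := by
    rw [Set.ncard_union_eq (by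
        rw [Set.disjoint_union_left, Set.disjoint_union_left]; exact ⟨⟨d1, d2⟩, d3⟩)
        (Set.toFinite _) (Set.toFinite _),
      Set.ncard_union_eq (by rw [Set.disjoint_union_left]; exact ⟨d5, d6⟩)
        (Set.toFinite _) (Set.toFinite _),
      Set.ncard_union_eq d4 (Set.toFinite _) (Set.toFinite _), Set.ncard_singleton]
  rw [hcard, hsum] at hu
  refine ⟨?_, by omega, by omega, by omega⟩
  apply Set.eq_of_subset_of_ncard_le (Set.subset_univ _) _ (Set.toFinite _)
  rw [Set.ncard_univ, hcard, hsum]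
  omega

theorem exists_kappa' : ∃ κ : leechLattice →+ (Fin 24 → ZMod 2),
    ∀ x y, κ x = κ y ↔ LCong x y := by
  obtain ⟨κ, hκ⟩ := leech_LLat.exists_kappa
  refine ⟨κ, fun x y => ?_⟩
  rw [lcong_iff, ← hκ, map_sub, sub_eq_zero]

/-- short representatives -/
theorem exists_short (v : leechLattice) : ∃ w : leechLattice, LCong v w ∧
    (w = 0 ∨ bL w w = 4 ∨ bL w w = 6 ∨ bL w w = 8) := by
  obtain ⟨κ, hκ⟩ := leech_LLat.exists_kappa
  have h := (layers κ hκ).1
  have h1 : κ v ∈ (Set.univ : Set (Fin 24 → ZMod 2)) := Set.mem_univ _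
  rw [← h] at h1
  have key : ∀ w, κ w = κ v → LCong v w := by
    intro w hw
    rw [lcong_iff, ← hκ, map_sub, hw, sub_self]
  rcases h1 with ((⟨w, hw, h1⟩ | ⟨w, hw, h1⟩) | ⟨w, hw, h1⟩) | h1
  · exact ⟨w, key w h1, Or.inr (Or.inl hw)⟩
  · exact ⟨w, key w h1, Or.inr (Or.inr (Or.inl hw))⟩
  · exact ⟨w, key w h1, Or.inr (Or.inr (Or.inr hw))⟩
  · exact ⟨0, key 0 (by rw [map_zero]; exact h1.symm), Or.inl rfl⟩

/-- short vectors congruent modulo two -/
theorem short_cong' {x y : leechLattice} (hx : bL x x ≤ 8) (hy : bL y y ≤ 8) (h : LCong x y) :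
    x = y ∨ x = -y ∨ (bL x x = 8 ∧ bL y y = 8 ∧ bL x y = 0) := by
  obtain ⟨u, hu⟩ := lcong_iff.1 h
  exact leech_LLat.short_cong hx hy hu

theorem not_lcong_zero {x : leechLattice} (h0 : x ≠ 0) (hx : bL x x ≤ 8) : ¬ LCong x 0 := by
  intro h
  have h00 : bL (0 : leechLattice) 0 = 0 := leech_LLat.zero_left 0
  rcases short_cong' hx (by rw [h00]; norm_num) h with h1 | h1 | h1
  · exact h0 h1
  · rw [neg_zero] at h1; exact h0 h1
  · rw [h00] at h1; omega

theorem ne_zero_of_norm {x : leechLattice} {n : ℤ} (h : bL x x = n) (hn : 0 < n) : x ≠ 0 := by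
  rintro rfl
  have h00 : bL (0 : leechLattice) 0 = 0 := leech_LLat.zero_left 0
  omega

/-- transitivity of the automorphism group on the vectors of norm 4, 6, 8 -/
theorem co0_trans {v w : leechLattice} (h : bL v v = bL w w)
    (hv : bL v v = 4 ∨ bL v v = 6 ∨ bL v v = 8) : ∃ g : Co0, g • v = w := by
  rcases hv with hv | hv | hv
  · obtain ⟨g, hg⟩ := to_t2 v hv
    obtain ⟨k, hk⟩ := to_t2 w (by rw [← h, hv])
    exact ⟨k⁻¹ * g, by rw [mul_smul, hg, ← hk, inv_smul_smul]⟩
  · obtain ⟨g, hg⟩ := to_t3 v hv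
    obtain ⟨k, hk⟩ := to_t3 w (by rw [← h, hv])
    exact ⟨k⁻¹ * g, by rw [mul_smul, hg, ← hk, inv_smul_smul]⟩
  · obtain ⟨g, hg⟩ := to_e8 v hv
    obtain ⟨k, hk⟩ := to_e8 w (by rw [← h, hv])
    exact ⟨k⁻¹ * g, by rw [mul_smul, hg, ← hk, inv_smul_smul]⟩

end Cfsg.Agent.H29
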