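import Cfsg.Agent.H29.CoPairs
import Cfsg.Agent.H29.LeechMod

/-!
Transfer of counts and transitivity under `Co0`; norm dictionary.
-/
set_option autoImplicit false

namespace Cfsg.Agent.H29
open Cfsg Cfsg.Agent.H7

section
variable {G α β : Type*} [Group G] [MulAction G α] [MulAction G β]

theorem ncardG (P : α → β → Prop) (hP : ∀ g : G, ∀ a x, P a x → P (g • a) (g • x)) {a0 a : α}
    {N : ℕ} (h0 : {x | P a0 x}.ncard = N) (ha : ∃ g : G, g • a = a0) : {x | P a x}.ncard = N := by
  obtain ⟨σ, rfl⟩ := ha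
  rw [← h0]
  have e : {x | P (σ • a) x} = (fun x => σ • x) '' {x | P a x} := by
    ext y
    constructor
    · intro hy
      refine ⟨σ⁻¹ • y, ?_, smul_inv_smul _ _⟩
      have := hP σ⁻¹ _ _ hy
      rwa [inv_smul_smul] at this
    · rintro ⟨x, hx, rfl⟩
      exact hP σ _ _ hx
  rw [e, Set.ncard_image_of_injective _ (MulAction.injective σ)]

theorem trG (P : α → β → Prop) (hP : ∀ g : G, ∀ a x, P a x → P (g • a) (g • x)) {a0 a : α}
    (h0 : ∀ x y, P a0 x → P a0 y → ∃ g : G, g • a0 = a0 ∧ g • x = y) (ha : ∃ g : G, g • a = a0) :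
    ∀ x y, P a x → P a y → ∃ g : G, g • a = a ∧ g • x = y := by
  obtain ⟨σ, hσ⟩ := ha
  intro x y hx hy
  have h1 := hP σ _ _ hx
  have h2 := hP σ _ _ hy
  rw [hσ] at h1 h2
  obtain ⟨g, hg1, hg2⟩ := h0 _ _ h1 h2
  refine ⟨σ⁻¹ * g * σ, ?_, ?_⟩
  · rw [mul_smul, mul_smul, hσ, hg1, ← hσ, inv_smul_smul]
  · rw [mul_smul, mul_smul, hg2, inv_smul_smul]

/-- transitivity from standard positions -/
theorem tr_of_std {a a0 : α} {x y x0 : β} (h1 : ∃ g : G, g • a = a0 ∧ g • x = x0)
    (h2 : ∃ g : G, g • a = a0 ∧ g • y = x0) : ∃ g : G, g • a = a ∧ g • x = y := by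
  obtain ⟨g, hg, hg'⟩ := h1
  obtain ⟨k, hk, hk'⟩ := h2
  refine ⟨k⁻¹ * g, ?_, ?_⟩
  · rw [mul_smul, hg, ← hk, inv_smul_smul]
  · rw [mul_smul, hg', ← hk', inv_smul_smul]

/-- double counting -/
theorem double_count {X : Type*} {A : Set X} {R : X → X → Prop} {n : ℕ} (hA : A.Finite)
    (hn : ∀ a ∈ A, {x | R a x}.ncard = n) (hfin : ∀ a ∈ A, {x | R a x}.Finite) :
    {p : X × X | p.1 ∈ A ∧ R p.1 p.2}.ncard = A.ncard * n := by
  classical
  have e : {p : X × X | p.1 ∈ A ∧ R p.1 p.2} = ⋃ a ∈ hA.toFinset, (fun x => (a, x)) '' {x | R a x} := by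
    ext ⟨a, x⟩
    simp only [Set.mem_iUnion, Set.Finite.mem_toFinset, Set.mem_image, exists_prop]
    constructor
    · rintro ⟨h1, h2⟩; exact ⟨a, h1, x, h2, rfl⟩
    · rintro ⟨b, hb, y, hy, h⟩
      have h1 := congrArg Prod.fst h
      have h2 := congrArg Prod.snd h
      simp only at h1 h2
      subst h1; subst h2
      exact ⟨hb, hy⟩
  have hf2 : ∀ a ∈ A, ((fun x => (a, x)) '' {x | R a x}).Finite := fun a ha => (hfin a ha).image _
  have key : ∀ T : Finset X, (∀ a ∈ T, a ∈ A) →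
      (⋃ a ∈ T, (fun x => (a, x)) '' {x | R a x}).ncard = T.card * n := by
    intro T
    induction T using Finset.induction_on with
    | empty => intro _; simp
    | insert a T ha ih =>
      intro hT
      have haA := hT a (Finset.mem_insert_self a T)
      have hT' : ∀ b ∈ T, b ∈ A := fun b hb => hT b (Finset.mem_insert_of_mem hb)
      have hfU : (⋃ a ∈ T, (fun x => (a, x)) '' {x | R a x}).Finite :=
        Set.Finite.biUnion T.finite_toSet fun b hb => hf2 b (hT' b hb)
      rw [Finset.set_biUnion_insert, Set.ncard_union_eq ?_ (hf2 a haA) hfU, ih hT',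
        Set.ncard_image_of_injective _ (fun x y h => (congrArg Prod.snd h : _)), hn a haA,
        Finset.card_insert_of_notMem ha]
      · ring
      · rw [Set.disjoint_left]
        rintro p ⟨x, _, rfl⟩ h2
        rw [Set.mem_iUnion₂] at h2
        obtain ⟨b, hb, y, _, h⟩ := h2
        have h1 := congrArg Prod.fst h
        simp only at h1
        subst h1
        exact ha hb
  rw [e, key _ (fun a ha => hA.mem_toFinset.1 ha), Set.ncard_eq_toFinset_card A hA]

end

theorem sq_iff {v : leechLattice} {n : ℤ} : sqNorm (v : GolayPt → ℤ) = 8 * n ↔ bL v v = n := by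
  rw [← bL_self]; constructor <;> intro h <;> omega

theorem dot_iff {v w : leechLattice} {n : ℤ} : dotInt (v : GolayPt → ℤ) (w : GolayPt → ℤ) = 8 * n ↔ bL v w = n := by
  rw [← bL_mul]; constructor <;> intro h <;> omega

theorem sq32 {v : leechLattice} : sqNorm (v : GolayPt → ℤ) = 32 ↔ bL v v = 4 := sq_iff (n := 4)
theorem sq48 {v : leechLattice} : sqNorm (v : GolayPt → ℤ) = 48 ↔ bL v v = 6 := sq_iff (n := 6)
theorem sq64' {v : leechLattice} : sqNorm (v : GolayPt → ℤ) = 64 ↔ bL v v = 8 := sq_iff (n := 8)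
theorem sq32s {u v : leechLattice} : sqNorm ((u : GolayPt → ℤ) - (v : GolayPt → ℤ)) = 32 ↔ bL (u - v) (u - v) = 4 :=
  sq32 (v := u - v)

/-- functions versus lattice vectors -/
theorem ncard_coe {P : (GolayPt → ℤ) → Prop} :
    {x : GolayPt → ℤ | x ∈ leechLattice ∧ P x}.ncard = {x : leechLattice | P (x : GolayPt → ℤ)}.ncard := by
  have e : {x : GolayPt → ℤ | x ∈ leechLattice ∧ P x} = Subtype.val '' {x : leechLattice | P (x : GolayPt → ℤ)} := by
    ext x
    constructor
    · rintro ⟨h1, h2⟩; exact ⟨⟨x, h1⟩, h2, rfl⟩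
    · rintro ⟨y, hy, rfl⟩; exact ⟨y.2, hy⟩
  rw [e, Set.ncard_image_of_injective _ Subtype.val_injective]

/-! ### the class of a norm eight vector -/

theorem class_e8 : {v : leechLattice | bL v v = 8 ∧ LCong (e8 none) v}.ncard = 48 := by
  have e : {v : leechLattice | bL v v = 8 ∧ LCong (e8 none) v}
      = Set.range (fun p : GolayPt × Bool => if p.2 then e8 p.1 else - e8 p.1) := by
    ext v
    constructor
    · rintro ⟨h1, h2⟩
      obtain ⟨u, hu⟩ := lcong_iff.1 h2.symm
      obtain ⟨j, hj | hj⟩ := std_class h1 hu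
      · exact ⟨(j, true), by simp [hj]⟩
      · exact ⟨(j, false), by simp [hj]⟩
    · rintro ⟨⟨j, b⟩, rfl⟩
      have h0 : LCong (e8 none) (e8 j) := lcong_iff.2 (e8_frame.cong none j)
      have hn : bL (e8 j) (e8 j) = 8 := e8_frame.norm j
      cases b
      · refine ⟨?_, ?_⟩
        · simp only [Bool.false_eq_true, if_false]
          rw [bL_neg, bL_neg_right, neg_neg]; exact hn
        · simp only [Bool.false_eq_true, if_false]
          exact h0.trans (LCong.neg (e8 j)).symm
      · exact ⟨by simpa using hn, by simpa using h0⟩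
  rw [e, Set.ncard_range_of_injective]
  · rw [Nat.card_prod, Nat.card_eq_fintype_card, Nat.card_eq_fintype_card]
    rfl
  · rintro ⟨i, b⟩ ⟨j, c⟩ h
    cases b <;> cases c <;> simp only [Bool.false_eq_true, if_false, if_true] at h
    · rw [e8_inj (neg_injective h)]
    · exact absurd h.symm (e8_ne_neg _ _)
    · exact absurd h (e8_ne_neg _ _)
    · rw [e8_inj h]

theorem class8 {u : leechLattice} (hu : bL u u = 8) : {v : leechLattice | bL v v = 8 ∧ LCong u v}.ncard = 48 := by
  obtain ⟨g, hg⟩ := to_e8 u hu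
  exact ncardG (G := Co0) (fun u v => bL v v = 8 ∧ LCong u v)
    (fun g a x h => ⟨by rw [co0_bL]; exact h.1, h.2.smul g⟩) class_e8 ⟨g, hg⟩

end Cfsg.Agent.H29
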