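import Cfsg.Agent.H7.GolayM24c
import Cfsg.Agent.H29.Steiner
import Cfsg.Agent.H29.Trans

/-!
Words and sets for the binary Golay code; coset leaders; the punctured code.
-/
set_option autoImplicit false
open Cfsg

namespace Cfsg.Agent.H29
open Cfsg.Agent.H7

theorem supp_sub (v w : GolayPt → ZMod 2) : support₂ (w - v) = symmDiff (support₂ w) (support₂ v) := by
  ext i
  rw [Finset.mem_symmDiff]
  simp only [support₂, Finset.mem_filter, Finset.mem_univ, true_and, Pi.sub_apply]
  generalize w i = a
  generalize v i = b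
  revert a b; decide

theorem norm_eq (v : GolayPt → ZMod 2) : hammingNorm v = (support₂ v).card := by
  rw [hammingNorm, support₂]

theorem supp_surj (s : Finset GolayPt) : ∃ v : GolayPt → ZMod 2, support₂ v = s := by
  obtain ⟨n, hn, h⟩ := toSet_surj s
  exact ⟨word n, by rw [support₂_word, h]⟩

theorem cardSD (s t : Finset GolayPt) : (symmDiff s t).card + 2 * (s ∩ t).card = s.card + t.card := card_symmDiff' s t

theorem leader (W : Finset GolayPt) : ∀ n, ∀ S : Finset GolayPt, S.card = n → symmDiff W S ∈ GC →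
    ∃ S : Finset GolayPt, S.card ≤ 4 ∧ symmDiff W S ∈ GC := by
  intro n
  induction n using Nat.strong_induction_on with
  | _ n ih =>
    intro S hS hW
    by_cases h4 : n ≤ 4
    · exact ⟨S, by omega, hW⟩
    obtain ⟨T, hT, hT5⟩ := Finset.exists_subset_card_eq (show 5 ≤ S.card by omega)
    obtain ⟨o, ⟨ho, hTo⟩, -⟩ := octads_steiner.2 T hT5
    have h8 : o.card = 8 := (mem_octads.1 ho).2
    have h5 : 5 ≤ (S ∩ o).card := by rw [← hT5]; exact Finset.card_le_card (Finset.subset_inter hT hTo)
    have h6 := cardSD S o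
    refine ih (symmDiff S o).card (by omega) _ rfl ?_
    rw [← symmDiff_assoc]
    exact GC_symmDiff hW (mem_octads.1 ho).1


/-- restriction to the 23 coordinates -/
def pun (w : GolayPt → ZMod 2) : ZMod 23 → ZMod 2 := fun x => w (some x)

theorem norm_pun (w : GolayPt → ZMod 2) : hammingNorm (pun w) = ((support₂ w).erase none).card := by
  have e : (support₂ w).erase none = (Finset.univ.filter fun x : ZMod 23 => pun w x ≠ 0).map Function.Embedding.some := by
    ext p
    rw [Finset.mem_erase, support₂, Finset.mem_filter, Finset.mem_map]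
    constructor
    · rintro ⟨h1, -, h2⟩
      obtain ⟨x, rfl⟩ := Option.ne_none_iff_exists'.1 h1
      refine ⟨x, ?_, rfl⟩
      rw [Finset.mem_filter]
      exact ⟨Finset.mem_univ _, h2⟩
    · rintro ⟨x, hx, rfl⟩
      rw [Finset.mem_filter] at hx
      exact ⟨Option.some_ne_none x, Finset.mem_univ _, hx.2⟩
  rw [e, Finset.card_map]
  rfl

theorem pun_mem {u : ZMod 23 → ZMod 2} :
    u ∈ {u : ZMod 23 → ZMod 2 | ∃ w ∈ golayCode, ∀ x : ZMod 23, u x = w (some x)} ↔ ∃ w ∈ golayCode, pun w = u :=
  ⟨fun ⟨w, h1, h2⟩ => ⟨w, h1, (funext h2).symm⟩, fun ⟨w, h1, h2⟩ => ⟨w, h1, fun x => by rw [← h2]; rfl⟩⟩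

theorem pun_sub (v w : GolayPt → ZMod 2) : pun (v - w) = pun v - pun w := rfl

theorem eq_zero_of_pun {w : GolayPt → ZMod 2} (hw : w ∈ golayCode) (h : hammingNorm (pun w) < 7) : w = 0 := by
  rw [norm_pun] at h
  have h1 := GC_weights _ (support_mem_GC.2 hw)
  have h2 : (support₂ w).card ≤ ((support₂ w).erase none).card + 1 := by
    have := Finset.pred_card_le_card_erase (s := support₂ w) (a := (none : GolayPt))
    omega
  have h3 : (support₂ w).card = 0 := by omega
  apply support₂_injective
  rw [Finset.card_eq_zero.1 h3]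
  ext i
  simp [support₂]

theorem pun_inj {v w : GolayPt → ZMod 2} (hv : v ∈ golayCode) (hw : w ∈ golayCode) (h : pun v = pun w) : v = w := by
  have h1 : hammingNorm (pun (v - w)) < 7 := by
    rw [pun_sub, h, sub_self, hammingNorm_zero]; norm_num
  exact sub_eq_zero.1 (eq_zero_of_pun (Submodule.sub_mem _ hv hw) h1)

end Cfsg.Agent.H29
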