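import Cfsg.Agent.H29.GFq25
import Cfsg.Agent.H23.Coprime

/-!
# The 630 unit vectors permuted by `3·A₇` in `SU₃(5)` (helper29)
-/

set_option autoImplicit false
set_option linter.style.haveILetI false
set_option linter.unusedSectionVars false
set_option linter.unusedSimpArgs false

namespace Cfsg.Agent.H29.GFq25B

open Matrix Cfsg Cfsg.Agent.H5 Cfsg.Agent.H5.FormData Cfsg.Agent.H18 Cfsg.Agent.H29.GFq25

def mask : ℕ := 0x1400000000000000002000402002000000060104000000025000040000000400010000002404100000000600000002000400000000000000050000400400022000040400020200004400000000000000020002000108000000000000000000000000000000000000000100040000000000000000000000000008002000000000042002000200000000000000000000000000000000000000000000000000000108004001000000000000000000000000000000000000000100010000000000000000000000000008000800000001000400010800000000000000000000000000000000000000000000002000400000000000000202002000080200200000009008800000001800000000000600880000000242002000000000202000000000000000080010400010008200001400000a000010400000000020020000000000000020000800000010000008000000000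00000000100000000000040000000000000000008000002000080000000000000080080000000200000000000600000300000001948200000060000000000000200200000000800000400000000000000000080000000000020000000000000000004000000200200000000000000000001800000100000040001020000800000000ca4100104000000000000000000009000000000000100004000000600000000000000000000000064000100000000000000000009000000000000004100000000008008000440000220001001000000004000024000000000000008800000000000000000000608008000000000000000000000800800000018000000000000008800000000000000000000900000020000800410000208004000100000003000040000000000000000001800000100000080000000000000000010000000000004000000000000000000800000000001800000000000040001000000020000001001000800800000000194820000000100040100010000000000000000000000000000000000000000021000000000000000000000000000001080000000040004010004000000000000000000000000000000000000000000000400010000000000000000000600000040000020000000000000000004000000000001000000000000000000200000000000600000000000010000400000008000000400400200200000000065208000002400000000000000880000000000000000000060800800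00000000000000000008008000000180000000000000088000000000000000000009000000200008004100002080040001000000020410000000000000000000024000000000000400010000001800000000000000000000000190000400000000000000000024000000000000010400000000020020001100000880004004000000010000060000000000000200200000000800000400000000000000000080000000000020000000000000000004000000200200000000000000000001800000100000040001020000800000000ca41000000008002008000800000000000000000000000000000000000000001080000000000000000000000000000084000000002000200800200000000000000000000000000000000000000000000002000400000000000000202002000080200200000009008800000001800000000000600880000000242002000000000202000000000000000080010400010008200001400000a0000104000000000000000004200100040000000000000000000000000000000000000004000400000000000000000000000000200020000000040010000420000000000000000000000000000000000000000000000000000200020001080000000000000000000000000000000000000001000400000000000000000000000000080020000000000420020002000000000000000000000000000000000000000000000005000000000000000008001008008000000180410000000094000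10000000100004000000901040000000180000000800100000000000000014000100100008800010100008080001100000000004004000000000000004000100000002000001000000000000000000200000000000080000000000000000010000004000100000000000000100100000000400000000000c00000600000003290400220000000000000000082000000000000000080080200008000000000000000000020000802002000000000000000082000000000000000008800000000000000c00000900000480000180000010404000000000000000014000000006400010004400004100010010000000004004000410000110004000100000000014000000000000000010100000000c0000090400080200040000012000000020200000000000000000a00000000320000800220000208000800800000000200200020800008800200008000000000a00000000000000000808000000060000048200040100020000009000000004400000000000000001040000000000000001001004000100000000000000000000400010040040000000000000001040000000000000000110000000000000018000012000009000003000000200000000000000000000000001948200ca410000000400000219482000000006520800000020000010ca410000000000000000000000000000000003290400000010000000000000000002063012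

def cd (v : C3) : ℕ := v.1 + 25 * v.2.1 + 625 * v.2.2

def chkS (A : M3) : Bool :=
  (List.range 25).all fun a => (List.range 25).all fun b => (List.range 25).all fun c =>
    !(mask.testBit (a + 25 * b + 625 * c)) || mask.testBit (cd (mvC A (a, b, c)))

def mW : M3 := ((0, 1, 0), (4, 0, 0), (0, 0, 1))
def mZ : M3 := ((1, 0, 0), (0, 4, 0), (0, 0, 4))
def mO : M3 := ((12, 0, 0), (0, 12, 0), (0, 0, 12))
def mD : M3 := ((1, 0, 0), (0, 12, 0), (0, 0, 17))
def mC : M3 := ((0, 0, 1), (1, 0, 0), (0, 1, 0))
def m5 : M3 := ((13, 21, 17), (6, 18, 12), (4, 4, 2))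
def m7 : M3 := ((17, 17, 21), (18, 6, 12), (2, 1, 4))
def mU : M3 := ((1, 2, 13), (2, 1, 13), (18, 18, 2))

theorem cW : chkS mW = true := by decide +kernel
theorem cZ : chkS mZ = true := by decide +kernel
theorem cO : chkS mO = true := by decide +kernel
theorem cD : chkS mD = true := by decide +kernel
theorem cC : chkS mC = true := by decide +kernel
theorem c5 : chkS m5 = true := by decide +kernel
theorem c7 : chkS m7 = true := by decide +kernel

theorem kW : chk mW = true := by decide +kernel
theorem kZ : chk mZ = true := by decide +kernel
theorem kO : chk mO = true := by decide +kernel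
theorem kD : chk mD = true := by decide +kernel
theorem kC : chk mC = true := by decide +kernel
theorem k5 : chk m5 = true := by decide +kernel
theorem k7 : chk m7 = true := by decide +kernel
theorem kU : chk mU = true := by decide +kernel

/-- the checks as a statement -/
theorem chkS_spec {A : M3} (h : chkS A = true) {a b c : ℕ} (ha : a < 25) (hb : b < 25) (hc : c < 25)
    (hm : mask.testBit (a + 25 * b + 625 * c) = true) : mask.testBit (cd (mvC A (a, b, c))) = true := by
  unfold chkS at h
  rw [List.all_eq_true] at h
  have h1 := h a (List.mem_range.2 ha)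
  rw [List.all_eq_true] at h1
  have h2 := h1 b (List.mem_range.2 hb)
  rw [List.all_eq_true] at h2
  have h3 := h2 c (List.mem_range.2 hc)
  rw [hm] at h3
  simpa using h3

variable {F : Type*} [Field F] [Fintype F]

/-- the set of 630 unit vectors -/
def SS (s : F) : Set (Fin 3 → F) := {x | ∃ a b c : ℕ, a < 25 ∧ b < 25 ∧ c < 25 ∧
  mask.testBit (a + 25 * b + 625 * c) = true ∧ x = vv s (a, b, c)}

/-- its stabilizer -/
def St (s : F) : Subgroup (SU 3 F 5) where
  carrier := {g | ∀ x ∈ SS s, sv g x ∈ SS s}
  one_mem' := fun x hx => by rw [sv_one]; exact hx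
  mul_mem' := fun {a b} ha hb x hx => by rw [sv_mul]; exact ha _ (hb _ hx)
  inv_mem' := by
    intro g hg x hx
    have h1 : ∀ n : ℕ, ∀ x ∈ SS s, sv (g ^ n) x ∈ SS s := by
      intro n
      induction n with
      | zero => intro x hx; rw [pow_zero, sv_one]; exact hx
      | succ n ih => intro x hx; rw [pow_succ, sv_mul]; exact ih _ (hg _ hx)
    have h2 : g⁻¹ = g ^ (Nat.card (SU 3 F 5) - 1) := by
      have h3 : g ^ (Nat.card (SU 3 F 5) - 1) * g = 1 := by
        rw [← pow_succ, Nat.sub_add_cancel Nat.card_pos, pow_card_eq_one']
      exact (eq_inv_of_mul_eq_one_left h3).symm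
    rw [h2]
    exact h1 _ x hx

theorem mem_St {s : F} {g : SU 3 F 5} : g ∈ St s ↔ ∀ x ∈ SS s, sv g x ∈ SS s := Iff.rfl

/-- conjugation into itself suffices -/
theorem norm_of_map {G : Type*} [Group G] [Finite G] (K : Subgroup G) (g : G)
    (h : K.map (MulAut.conj g).toMonoidHom ≤ K) : g ∈ Subgroup.normalizer (K : Set G) := by
  rw [Subgroup.mem_normalizer_iff_map_conj_eq]
  refine Subgroup.eq_of_le_of_card_ge h ?_
  rw [Subgroup.card_map_of_injective (MulAut.conj g).injective]

variable (h5 : (5 : F) = 0) {s : F} (hs : s * s = 2) {σ : F →+* F} (hσ : ∀ x, σ x = x ^ 5)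
include h5 hs hσ

theorem sv_su (A : M3) (h : chk A = true) (v : C3) : sv (su h5 hs hσ A h) (vv s v) = vv s (mvC A v) :=
  vm_mulVec h5 hs A v

theorem su_mem (A : M3) (h : chk A = true) (hS : chkS A = true) : su h5 hs hσ A h ∈ St s := by
  rw [mem_St]
  rintro x ⟨a, b, c, ha, hb, hc, hm, rfl⟩
  rw [sv_su]
  refine ⟨_, _, _, ad_lt _ _, ad_lt _ _, ad_lt _ _, ?_, rfl⟩
  exact chkS_spec hS ha hb hc hm

theorem mU_not : su h5 hs hσ mU kU ∉ St s := by
  intro h
  have h1 := h (vv s (1, 0, 0)) ⟨1, 0, 0, by norm_num, by norm_num, by norm_num, by decide +kernel, rfl⟩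
  rw [sv_su] at h1
  have h2 : mvC mU (1, 0, 0) = (1, 2, 18) := by decide +kernel
  rw [h2] at h1
  obtain ⟨a, b, c, ha, hb, hc, hm, he⟩ := h1
  obtain ⟨rfl, rfl, rfl⟩ := vv_inj h5 hs (by norm_num) (by norm_num) (by norm_num) ha hb hc he
  have h3 : mask.testBit (1 + 25 * 2 + 625 * 18) = false := by decide +kernel
  rw [h3] at hm
  exact absurd hm (by decide)

omit h5 hs hσ in
/-- extending a subgroup by an element of prime order -/
theorem mul_card {G : Type*} [Group G] [Finite G] (K : Subgroup G) (c : G) {p : ℕ} (hp : p.Prime)
    (hc : orderOf c = p) (hn : c ∈ Subgroup.normalizer (K : Set G)) (hne : c ∉ K) :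
    Nat.card (K ⊔ Subgroup.zpowers c : Subgroup G) = Nat.card K * p := by
  have h1 : Subgroup.zpowers c ⊓ K = ⊥ := by
    have h2 : Nat.card (Subgroup.zpowers c ⊓ K : Subgroup G) ∣ p := by
      rw [← hc, ← Nat.card_zpowers]
      exact Subgroup.card_dvd_of_le inf_le_left
    rcases (Nat.dvd_prime hp).1 h2 with h | h
    · exact Subgroup.card_eq_one.1 h
    · exfalso
      have h3 : Subgroup.zpowers c ⊓ K = Subgroup.zpowers c :=
        Subgroup.eq_of_le_of_card_ge inf_le_left (by rw [h, Nat.card_zpowers, hc])
      have h4 : c ∈ Subgroup.zpowers c ⊓ K := by rw [h3]; exact Subgroup.mem_zpowers c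
      exact hne h4.2
  rw [H23.card_sup_of_inf_eq_bot (Subgroup.zpowers_le.2 hn) h1, Nat.card_zpowers, hc]

theorem su_pow (A : M3) (h : chk A = true) (n : ℕ) (hp : powC A n = oneC) :
    su h5 hs hσ A h ^ n = 1 := by
  apply mt_inj
  rw [mt_pow, mt_su, ← vm_pow h5 hs, hp, vm_one, mt_one]

theorem su_ne_one (A : M3) (h : chk A = true) (hr : red A = true) (hne : A ≠ oneC) :
    su h5 hs hσ A h ≠ 1 := by
  intro he
  apply hne
  apply vm_inj h5 hs hr (by decide)
  rw [vm_one, ← mt_su h5 hs hσ A h, he, mt_one]

theorem su_order (A : M3) (h : chk A = true) {p : ℕ} (hpp : p.Prime) (hp : powC A p = oneC)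
    (hr : red A = true) (hne : A ≠ oneC) : orderOf (su h5 hs hσ A h) = p :=
  haveI : Fact p.Prime := ⟨hpp⟩
  orderOf_eq_prime (su_pow h5 hs hσ A h p hp) (su_ne_one h5 hs hσ A h hr hne)

theorem su_mul_eq (A B C D : M3) (hA : chk A = true) (hB : chk B = true) (hC : chk C = true)
    (hD : chk D = true) (h : mmC A B = mmC C D) :
    su h5 hs hσ A hA * su h5 hs hσ B hB = su h5 hs hσ C hC * su h5 hs hσ D hD := by
  apply mt_inj
  rw [mt_mul, mt_mul, mt_su, mt_su, mt_su, mt_su, ← vm_mul h5 hs, ← vm_mul h5 hs, h]

theorem su_mul_ne (A B C D : M3) (hA : chk A = true) (hB : chk B = true) (hC : chk C = true)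
    (hD : chk D = true) (h : mmC A B ≠ mmC C D) (hr : red (mmC A B) = true)
    (hr' : red (mmC C D) = true) :
    su h5 hs hσ A hA * su h5 hs hσ B hB ≠ su h5 hs hσ C hC * su h5 hs hσ D hD := by
  intro he
  apply h
  apply vm_inj h5 hs hr hr'
  rw [vm_mul h5 hs, vm_mul h5 hs]
  exact congrArg (H18.mt (F := F) (q := 5)) he

theorem dvd8 : 8 ∣ Nat.card (St s) := by
  set w := su h5 hs hσ mW kW with hw
  set z := su h5 hs hσ mZ kZ with hz
  have hw4 : orderOf w = 4 := by
    have h1 : w ^ 4 = 1 := su_pow h5 hs hσ mW kW 4 (by decide +kernel)
    have h2 : w ^ 2 ≠ 1 := by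
      intro h
      have h3 := congrArg (H18.mt (F := F) (q := 5)) h
      rw [mt_pow, hw, mt_su, ← vm_pow h5 hs, mt_one, ← vm_one s] at h3
      have h4 := vm_inj h5 hs (by decide +kernel) (by decide) h3
      exact absurd h4 (by decide +kernel)
    have := orderOf_eq_prime_pow (p := 2) (n := 1) (x := w) (by simpa using h2) (by simpa using h1)
    simpa using this
  have hz2 : orderOf z = 2 := su_order h5 hs hσ mZ kZ (by norm_num) (by decide +kernel)
    (by decide +kernel) (by decide +kernel)
  have hzw : z * w ≠ w * z := su_mul_ne h5 hs hσ mZ mW mW mZ kZ kW kW kZ (by decide +kernel)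
    (by decide +kernel) (by decide +kernel)
  have hne : z ∉ Subgroup.zpowers w := by
    rintro ⟨k, hk⟩
    apply hzw
    rw [← hk]
    exact (Commute.zpow_self w k).eq
  have hrel : w * z * w = z := by
    apply mt_inj
    rw [mt_mul, mt_mul, hw, hz, mt_su, mt_su, ← vm_mul h5 hs, ← vm_mul h5 hs]
    exact congrArg (vm s) (by decide +kernel)
  have hconj : z * w * z⁻¹ = w⁻¹ := by
    have : w * z * w * z⁻¹ = 1 := by rw [hrel, mul_inv_cancel]
    rw [eq_inv_iff_mul_eq_one]
    calc z * w * z⁻¹ * w = w⁻¹ * (w * z * w * z⁻¹) * w := by group
      _ = 1 := by rw [this]; group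
  have hn : z ∈ Subgroup.normalizer ((Subgroup.zpowers w : Subgroup (SU 3 F 5)) : Set (SU 3 F 5)) := by
    apply norm_of_map
    rw [MonoidHom.map_zpowers, Subgroup.zpowers_le]
    change z * w * z⁻¹ ∈ _
    rw [hconj]
    exact inv_mem (Subgroup.mem_zpowers w)
  have h1 := mul_card (Subgroup.zpowers w) z (by norm_num) hz2 hn hne
  rw [Nat.card_zpowers, hw4] at h1
  have h2 : Subgroup.zpowers w ⊔ Subgroup.zpowers z ≤ St s :=
    sup_le (Subgroup.zpowers_le.2 (su_mem h5 hs hσ mW kW cW))
      (Subgroup.zpowers_le.2 (su_mem h5 hs hσ mZ kZ cZ))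
  have h3 := Subgroup.card_dvd_of_le h2
  rw [h1] at h3
  exact h3

theorem o_order : orderOf (su h5 hs hσ mO kO) = 3 :=
  su_order h5 hs hσ mO kO (by norm_num) (by decide +kernel) (by decide +kernel) (by decide +kernel)

/-- the scalar of order 3 is central -/
theorem o_center : su h5 hs hσ mO kO ∈ Subgroup.center (SU 3 F 5) := by
  rw [Subgroup.mem_center_iff]
  intro g
  apply mt_inj
  rw [mt_mul, mt_mul, mt_su]
  have h1 : vm s mO = vl s 12 • (1 : Matrix (Fin 3) (Fin 3) F) := by
    ext i j
    fin_cases i <;> fin_cases j <;> simp [vm, vv, mO, vl_zero]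
  rw [h1, Matrix.mul_smul, Matrix.smul_mul, mul_one, one_mul]

theorem dvd27 : 27 ∣ Nat.card (St s) := by
  set o := su h5 hs hσ mO kO with ho
  set d := su h5 hs hσ mD kD with hd
  set c := su h5 hs hσ mC kC with hc
  have ho3 : orderOf o = 3 := o_order h5 hs hσ
  have hoc : o ∈ Subgroup.center (SU 3 F 5) := o_center h5 hs hσ
  have hd3 : orderOf d = 3 := su_order h5 hs hσ mD kD (by norm_num) (by decide +kernel)
    (by decide +kernel) (by decide +kernel)
  have hc3 : orderOf c = 3 := su_order h5 hs hσ mC kC (by norm_num) (by decide +kernel)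
    (by decide +kernel) (by decide +kernel)
  have hdc : d * c ≠ c * d := su_mul_ne h5 hs hσ mD mC mC mD kD kC kC kD (by decide +kernel)
    (by decide +kernel) (by decide +kernel)
  have hrel : c * d = o * o * d * c := by
    apply mt_inj
    rw [mt_mul, mt_mul, mt_mul, mt_mul, hc, hd, ho, mt_su, mt_su, mt_su, ← vm_mul h5 hs,
      ← vm_mul h5 hs, ← vm_mul h5 hs, ← vm_mul h5 hs]
    exact congrArg (vm s) (by decide +kernel)
  have hoz : Subgroup.zpowers o ≤ Subgroup.center (SU 3 F 5) := Subgroup.zpowers_le.2 hoc
  have hdo : d ∉ Subgroup.zpowers o := by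
    intro h
    exact hdc (Subgroup.mem_center_iff.1 (hoz h) c).symm
  have hdn : d ∈ Subgroup.normalizer ((Subgroup.zpowers o : Subgroup (SU 3 F 5)) : Set (SU 3 F 5)) := by
    apply norm_of_map
    rw [MonoidHom.map_zpowers, Subgroup.zpowers_le]
    change d * o * d⁻¹ ∈ _
    rw [Subgroup.mem_center_iff.1 hoc d, mul_inv_cancel_right]
    exact Subgroup.mem_zpowers o
  have h1 := mul_card (Subgroup.zpowers o) d (by norm_num) hd3 hdn hdo
  rw [Nat.card_zpowers, ho3] at h1
  set K := Subgroup.zpowers o ⊔ Subgroup.zpowers d with hK
  have hoK : o ∈ K := Subgroup.mem_sup_left (Subgroup.mem_zpowers o)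
  have hdK : d ∈ K := Subgroup.mem_sup_right (Subgroup.mem_zpowers d)
  have hcn : c ∈ Subgroup.normalizer ((K : Subgroup (SU 3 F 5)) : Set (SU 3 F 5)) := by
    apply norm_of_map
    rw [hK, Subgroup.map_sup, MonoidHom.map_zpowers, MonoidHom.map_zpowers, ← hK]
    refine sup_le (Subgroup.zpowers_le.2 ?_) (Subgroup.zpowers_le.2 ?_)
    · change c * o * c⁻¹ ∈ _
      rw [Subgroup.mem_center_iff.1 hoc c, mul_inv_cancel_right]
      exact hoK
    · change c * d * c⁻¹ ∈ _
      rw [hrel, mul_inv_cancel_right]
      exact mul_mem (mul_mem hoK hoK) hdK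
  have hcK : c ∉ K := by
    intro h
    have h2 : K ≤ Subgroup.centralizer ({d} : Set (SU 3 F 5)) := by
      refine sup_le (hoz.trans (Subgroup.center_le_centralizer _)) (Subgroup.zpowers_le.2 ?_)
      rw [Subgroup.mem_centralizer_singleton_iff]
    have h3 := Subgroup.mem_centralizer_singleton_iff.1 (h2 h)
    first
      | exact hdc h3
      | exact hdc h3.symm
  have h2 := mul_card K c (by norm_num) hc3 hcn hcK
  rw [h1] at h2
  have h3 : K ⊔ Subgroup.zpowers c ≤ St s :=
    sup_le (sup_le (Subgroup.zpowers_le.2 (su_mem h5 hs hσ mO kO cO))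
      (Subgroup.zpowers_le.2 (su_mem h5 hs hσ mD kD cD)))
      (Subgroup.zpowers_le.2 (su_mem h5 hs hσ mC kC cC))
  have h4 := Subgroup.card_dvd_of_le h3
  rw [h2] at h4
  exact h4

theorem dvd5 : 5 ∣ Nat.card (St s) := by
  have h := su_order h5 hs hσ m5 k5 (p := 5) (by norm_num) (by decide +kernel) (by decide +kernel)
    (by decide +kernel)
  have h1 := Subgroup.orderOf_dvd_natCard _ (su_mem h5 hs hσ m5 k5 c5)
  rw [h] at h1
  exact h1

theorem dvd7 : 7 ∣ Nat.card (St s) := by
  have h := su_order h5 hs hσ m7 k7 (p := 7) (by norm_num) (by decide +kernel) (by decide +kernel)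
    (by decide +kernel)
  have h1 := Subgroup.orderOf_dvd_natCard _ (su_mem h5 hs hσ m7 k7 c7)
  rw [h] at h1
  exact h1

theorem dvd_all : 7560 ∣ Nat.card (St s) := by
  have h1 : 8 * 27 ∣ Nat.card (St s) := Nat.Coprime.mul_dvd_of_dvd_of_dvd (by norm_num)
    (dvd8 h5 hs hσ) (dvd27 h5 hs hσ)
  have h2 : 8 * 27 * 5 ∣ Nat.card (St s) := Nat.Coprime.mul_dvd_of_dvd_of_dvd (by norm_num) h1
    (dvd5 h5 hs hσ)
  exact Nat.Coprime.mul_dvd_of_dvd_of_dvd (by norm_num) h2 (dvd7 h5 hs hσ)

theorem center_le_St (hF : Fintype.card F = 25) : Subgroup.center (SU 3 F 5) ≤ St s := by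
  have h1 : Subgroup.zpowers (su h5 hs hσ mO kO) ≤ Subgroup.center (SU 3 F 5) :=
    Subgroup.zpowers_le.2 (o_center h5 hs hσ)
  have h2 : Subgroup.zpowers (su h5 hs hσ mO kO) = Subgroup.center (SU 3 F 5) := by
    apply Subgroup.eq_of_le_of_card_ge h1
    rw [card_center_SU (q := 5) (by rw [hF]; norm_num) (by norm_num), Nat.card_zpowers,
      o_order h5 hs hσ]
    norm_num
  rw [← h2]
  exact Subgroup.zpowers_le.2 (su_mem h5 hs hσ mO kO cO)

end Cfsg.Agent.H29.GFq25B
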