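import Cfsg.Agent.H29.M24Objs

/-!
Joint stabilisers of pairs of sextets and of pairs of trios.
-/
set_option autoImplicit false

namespace Cfsg.Agent.H29
open Cfsg Cfsg.Agent.H7
open scoped Pointwise

noncomputable def sS90 : LObj := ⟨(sext (toSet 8405001)),
  0x8040094000d0292000148100292000148100020026292000148100804009292000001e00001e00001e00001e001481004000d04000d00200264000d0804009020026020026804009, [],
  [[], [(23, 1)], [(23, 0)], [(1, 1)], [(23, 1)], [(1, 1)], [(23, 0), (1, 0)]],
  [(23, 14), (1, 17)], [], (lfSxt [0, 3, 14, 23] 8405001)⟩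
theorem sS90_ok : sS90.OK := LObj.okSxt (m := 8405001) (ms := [7680, 131110, 1343744, 2695168, 4194512, 8405001]) (by decide +kernel) (by decide +kernel) (by decide +kernel) (by decide +kernel)

noncomputable def sS240 : LObj := ⟨(sext (toSet 12583432)),
  0xc00208c0020828088012200128088004114012200101c00401c00401c004122001041140280880000432c00208041140280880041140000432000432c0020801c004000432122001, [],
  [[], [(23, 0)], [(23, 0), (0, 0)], [(23, 0), (0, 0), (1, 0)], [(23, 1)], [(1, 1)], [(1, 1)]],
  [(2, 14), (0, 17)], [], (lfSxt [3, 9, 22, 23] 12583432)⟩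
theorem sS240_ok : sS240.OK := LObj.okSxt (m := 12583432) (ms := [1074, 114692, 266560, 1187841, 2623616, 12583432]) (by decide +kernel) (by decide +kernel) (by decide +kernel) (by decide +kernel)

noncomputable def sS1440 : LObj := ⟨(sext (toSet 8912913)),
  0x88001162002062002010080a88001105014062002005014000d00400d00400268000d00410080a00268000268005014000268005014062002088001110080a00d00410080a880011, [],
  [[], [(23, 1)], [(23, 0)], [(23, 0), (1, 0)], [(1, 1)], [(23, 0), (1, 0), (2, 0)], [(23, 1)]],
  [(2, 14), (5, 17)], [], (lfSxt [0, 4, 19, 23] 8912913)⟩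
theorem sS1440_ok : sS1440.OK := LObj.okSxt (m := 8912913) (ms := [9856, 53252, 328000, 1050634, 6422560, 8912913]) (by decide +kernel) (by decide +kernel) (by decide +kernel) (by decide +kernel)

noncomputable def tT0 : LObj := ⟨(trio 8536111 2460752),
  0x82402f583380258c50583380583380258c5082402f258c50258c5082402f583380583380258c50258c50583380583380583380258c5082402f258c5082402f82402f82402f82402f, [],
  [[], [(23, 1)], [(23, 1)], [(23, 1)], [(23, 1)], [(23, 1)], [(23, 0)]],
  [(23, 14), (23, 17)], [], (lfTri [0, 1, 2, 3, 5, 14, 17, 23] [4, 6, 10, 11, 15, 16, 18, 21] 8536111 2460752)⟩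
theorem tT0_ok : tT0.OK := LObj.okTri (a := 8536111) (b := 2460752) (by decide +kernel) (by decide +kernel) (by decide +kernel) (by decide +kernel) (by decide +kernel)

noncomputable def tT42 : LObj := ⟨(trio 10554382 442481),
  0xa10c0e583380a10c0e58338058338006c07106c071a10c0e06c07106c071583380583380a10c0ea10c0e58338058338058338006c07106c07106c071a10c0ea10c0ea10c0e06c071, [],
  [[], [(23, 0)], [(23, 1)], [(23, 1)], [(23, 1)], [(0, 1)], [(0, 1)]],
  [(0, 14), (0, 17)], [], (lfTri [1, 2, 3, 10, 11, 16, 21, 23] [0, 4, 5, 6, 14, 15, 17, 18] 10554382 442481)⟩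
theorem tT42_ok : tT42.OK := LObj.okTri (a := 10554382) (b := 442481) (by decide +kernel) (by decide +kernel) (by decide +kernel) (by decide +kernel) (by decide +kernel)

noncomputable def tT56 : LObj := ⟨(trio 8925710 442481),
  0x88320e710d80710d80710d8088320e06c07106c071710d8006c07106c07188320e88320e710d80710d8088320e710d80710d8006c07106c07106c07188320e88320e88320e06c071, [],
  [[], [(23, 0)], [(23, 1)], [(23, 1)], [(23, 1)], [(0, 1)], [(0, 1)]],
  [(0, 14), (0, 17)], [], (lfTri [1, 2, 3, 9, 12, 13, 19, 23] [0, 4, 5, 6, 14, 15, 17, 18] 8925710 442481)⟩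
theorem tT56_ok : tT56.OK := LObj.okTri (a := 8925710) (b := 442481) (by decide +kernel) (by decide +kernel) (by decide +kernel) (by decide +kernel) (by decide +kernel)

noncomputable def tT1008 : LObj := ⟨(trio 8619033 31554),
  0x8384197c00a47c00a47c00a47c00a47c00a4838419838419838419007b42007b42007b42007b42838419007b42007b427c00a4007b427c00a48384198384197c00a4007b42838419, [],
  [[], [(23, 1)], [(23, 0)], [(23, 0), (1, 0)], [(23, 1)], [(2, 1)], [(23, 1)]],
  [(1, 14), (23, 17)], [], (lfTri [0, 3, 4, 10, 15, 16, 17, 23] [1, 6, 8, 9, 11, 12, 13, 14] 8619033 31554)⟩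
theorem tT1008_ok : tT1008.OK := LObj.okTri (a := 8619033) (b := 31554) (by decide +kernel) (by decide +kernel) (by decide +kernel) (by decide +kernel) (by decide +kernel)

noncomputable def tT2688 : LObj := ⟨(trio 8524371 2738308),
  0x82125354252829c88454252829c88454252882125329c88429c88429c88454252882125329c88454252882125354252829c88482125354252882125354252829c884821253821253, [],
  [[], [(23, 1)], [(23, 1)], [(23, 0)], [(23, 0), (2, 0)], [(3, 1)], [(23, 1)]],
  [(2, 14), (23, 17)], [], (lfTri [0, 1, 4, 6, 9, 12, 17, 23] [2, 7, 11, 14, 15, 16, 19, 21] 8524371 2738308)⟩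
theorem tT2688_ok : tT2688.OK := LObj.okTri (a := 8524371) (b := 2738308) (by decide +kernel) (by decide +kernel) (by decide +kernel) (by decide +kernel) (by decide +kernel)

theorem js_S_S90 : JS oS35.π sS90.π 1536 :=
  js_count oS35_ok sS90_ok (by decide +kernel)

theorem js_S_S240 : JS oS35.π sS240.π 576 :=
  js_count oS35_ok sS240_ok (by decide +kernel)

theorem js_S_S1440 : JS oS35.π sS1440.π 96 :=
  js_count oS35_ok sS1440_ok (by decide +kernel)

theorem js_T_T42 : JS tT0.π tT42.π 1536 :=
  js_count tT0_ok tT42_ok (by decide +kernel)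

theorem js_T_T56 : JS tT0.π tT56.π 1152 :=
  js_count tT0_ok tT56_ok (by decide +kernel)

theorem js_T_T1008 : JS tT0.π tT1008.π 64 :=
  js_count tT0_ok tT1008_ok (by decide +kernel)

theorem js_T_T2688 : JS tT0.π tT2688.π 24 :=
  js_count tT0_ok tT2688_ok (by decide +kernel)

end Cfsg.Agent.H29
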