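import Mathlib
import Cfsg.Agent.S0144
import Cfsg.Agent.S0494
import Cfsg.Agent.S0495
import Cfsg.Agent.S0496
import Cfsg.Agent.S2119
import Cfsg.Agent.H10.Basic

set_option autoImplicit false
set_option linter.unusedSectionVars false
set_option linter.style.haveILetI false

/-!
Small groups with trivial solvable radical: orders 60, 120, 168.
-/

namespace Cfsg.Agent.H29.TrivRad

open Subgroup

/-- trivial solvable radical -/
def NS (G : Type*) [Group G] : Prop := ∀ N : Subgroup G, N.Normal → Group.IsSolvable N → N = ⊥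

variable {G : Type*} [Group G] [Finite G]

theorem NS.congr {H : Type*} [Group H] (e : G ≃* H) (h : NS G) : NS H := by
  intro N hN hs
  have h1 : N.comap e.toMonoidHom = ⊥ := by
    apply h
    · exact hN.comap _
    · have e1 : (N.comap e.toMonoidHom) ≃* N :=
        { toFun := fun x => ⟨e x.1, x.2⟩
          invFun := fun y => ⟨e.symm y.1, by
            change e (e.symm y.1) ∈ N
            rw [e.apply_symm_apply]; exact y.2⟩
          left_inv := fun x => Subtype.ext (e.symm_apply_apply x.1)
          right_inv := fun y => Subtype.ext (e.apply_symm_apply y.1)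
          map_mul' := fun x y => Subtype.ext (map_mul e x.1 y.1) }
      exact Group.isSolvable_of_isSolvable_injective (f := e1.toMonoidHom) e1.injective
  rw [eq_bot_iff]
  intro y hy
  have h2 : e.symm y ∈ N.comap e.toMonoidHom := by
    change e (e.symm y) ∈ N
    rw [e.apply_symm_apply]; exact hy
  rw [h1, Subgroup.mem_bot] at h2
  rw [Subgroup.mem_bot, ← e.apply_symm_apply y, h2, map_one]

theorem NS.of_normal (h : NS G) {N : Subgroup G} (hN : N.Normal) : NS N := by
  intro M hM hs
  have h1 : M ≤ Cfsg.Agent.H10.solvRad N := Cfsg.Agent.H10.le_solvRad hM hs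
  haveI := Cfsg.Agent.H10.solvRad_characteristic N
  have h2 : (Cfsg.Agent.H10.solvRad N).map N.subtype = ⊥ := by
    apply h
    · infer_instance
    · exact Cfsg.Agent.H10.isSolvable_map_subtype (Cfsg.Agent.H10.solvRad_isSolvable N)
  rw [Subgroup.map_eq_bot_iff_of_injective _ N.subtype_injective] at h2
  rw [eq_bot_iff, ← h2]
  exact h1

theorem NS.not_solvable [Nontrivial G] (h : NS G) : ¬ Group.IsSolvable G := by
  intro hs
  have h1 : (⊤ : Subgroup G) = ⊥ := h ⊤ inferInstance (by infer_instance)
  exact (bot_ne_top (α := Subgroup G)).symm h1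

theorem NS.eq_one_of_card {N : Subgroup G} (h : NS G) (hN : N.Normal) {p q a b : ℕ} (hp : p.Prime) (hq : q.Prime)
    (hc : Nat.card N = p ^ a * q ^ b) : N = ⊥ :=
  h N hN (Cfsg.Agent.S0144.result p q a b hp hq hc)

/-- order divisible by p if only three primes occur -/
theorem NS.dvd_of_three {N : Subgroup G} (h : NS G) (hN : N.Normal) (hne : N ≠ ⊥) {p q r a b c : ℕ} (hp : p.Prime) (hq : q.Prime)
    (hr : r.Prime) (hqp : Nat.Coprime (p ^ a * q ^ b) r) (hc : Nat.card N ∣ p ^ a * q ^ b * r ^ c) : r ∣ Nat.card N := by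
  by_contra hnd
  apply hne
  have h1 : Nat.Coprime (Nat.card N) (r ^ c) := (Nat.Coprime.pow_right c ((hr.coprime_iff_not_dvd.2 hnd).symm))
  have h2 : Nat.card N ∣ p ^ a * q ^ b := h1.dvd_of_dvd_mul_right hc
  obtain ⟨x, y, hx, hy, hxy⟩ := (Nat.dvd_mul.1 h2)
  obtain ⟨i, -, rfl⟩ := (Nat.dvd_prime_pow hp).1 hx
  obtain ⟨j, -, rfl⟩ := (Nat.dvd_prime_pow hq).1 hy
  exact h.eq_one_of_card hN hp hq hxy.symm

theorem not_NS_squarefree [Nontrivial G] (hs : Squarefree (Nat.card G)) : ¬ NS G := by
  intro h
  haveI := IsZGroup.of_squarefree hs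
  exact h.not_solvable inferInstance

theorem nontrivial_of_card (h : Nat.card G ≠ 1) : Nontrivial G := by
  rw [← Finite.one_lt_card_iff_nontrivial]
  have := Nat.card_pos (α := G)
  omega

theorem not_comm (hn : Nontrivial G) (h : NS G) : ¬ IsMulCommutative G := by
  intro hc
  apply h.not_solvable
  exact Group.isSolvable_of_comm (fun a b => hc.is_comm.comm a b)

theorem nontrivial_sub {N : Subgroup G} (h : N ≠ ⊥) : Nontrivial N := (Subgroup.nontrivial_iff_ne_bot N).2 h

theorem NS.thirty {N : Subgroup G} (h : NS G) (hN : N.Normal) (hne : N ≠ ⊥) {a b c : ℕ} (hc : Nat.card N ∣ 2 ^ a * 3 ^ b * 5 ^ c) :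
    30 ∣ Nat.card N := by
  have h5 : 5 ∣ Nat.card N := h.dvd_of_three hN hne (p := 2) (q := 3) (r := 5) (a := a) (b := b) (c := c) (by norm_num) (by norm_num) (by norm_num)
    (Nat.Coprime.mul_left (Nat.Coprime.pow_left _ (by norm_num)) (Nat.Coprime.pow_left _ (by norm_num))) hc
  have h3 : 3 ∣ Nat.card N := h.dvd_of_three hN hne (p := 2) (q := 5) (r := 3) (a := a) (b := c) (c := b) (by norm_num) (by norm_num) (by norm_num)
    (Nat.Coprime.mul_left (Nat.Coprime.pow_left _ (by norm_num)) (Nat.Coprime.pow_left _ (by norm_num)))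
    (by rw [show 2 ^ a * 5 ^ c * 3 ^ b = 2 ^ a * 3 ^ b * 5 ^ c by ring]; exact hc)
  have h2 : 2 ∣ Nat.card N := h.dvd_of_three hN hne (p := 3) (q := 5) (r := 2) (a := b) (b := c) (c := a) (by norm_num) (by norm_num) (by norm_num)
    (Nat.Coprime.mul_left (Nat.Coprime.pow_left _ (by norm_num)) (Nat.Coprime.pow_left _ (by norm_num)))
    (by rw [show 3 ^ b * 5 ^ c * 2 ^ a = 2 ^ a * 3 ^ b * 5 ^ c by ring]; exact hc)
  have h6 : 6 ∣ Nat.card N := Nat.Coprime.mul_dvd_of_dvd_of_dvd (by norm_num) h2 h3
  exact Nat.Coprime.mul_dvd_of_dvd_of_dvd (by norm_num : Nat.Coprime 6 5) h6 h5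

theorem NS.fortytwo {N : Subgroup G} (h : NS G) (hN : N.Normal) (hne : N ≠ ⊥) {a b c : ℕ} (hc : Nat.card N ∣ 2 ^ a * 3 ^ b * 7 ^ c) :
    42 ∣ Nat.card N := by
  have h5 : 7 ∣ Nat.card N := h.dvd_of_three hN hne (p := 2) (q := 3) (r := 7) (a := a) (b := b) (c := c) (by norm_num) (by norm_num) (by norm_num)
    (Nat.Coprime.mul_left (Nat.Coprime.pow_left _ (by norm_num)) (Nat.Coprime.pow_left _ (by norm_num))) hc
  have h3 : 3 ∣ Nat.card N := h.dvd_of_three hN hne (p := 2) (q := 7) (r := 3) (a := a) (b := c) (c := b) (by norm_num) (by norm_num) (by norm_num)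
    (Nat.Coprime.mul_left (Nat.Coprime.pow_left _ (by norm_num)) (Nat.Coprime.pow_left _ (by norm_num)))
    (by rw [show 2 ^ a * 7 ^ c * 3 ^ b = 2 ^ a * 3 ^ b * 7 ^ c by ring]; exact hc)
  have h2 : 2 ∣ Nat.card N := h.dvd_of_three hN hne (p := 3) (q := 7) (r := 2) (a := b) (b := c) (c := a) (by norm_num) (by norm_num) (by norm_num)
    (Nat.Coprime.mul_left (Nat.Coprime.pow_left _ (by norm_num)) (Nat.Coprime.pow_left _ (by norm_num)))
    (by rw [show 3 ^ b * 7 ^ c * 2 ^ a = 2 ^ a * 3 ^ b * 7 ^ c by ring]; exact hc)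
  have h6 : 6 ∣ Nat.card N := Nat.Coprime.mul_dvd_of_dvd_of_dvd (by norm_num) h2 h3
  exact Nat.Coprime.mul_dvd_of_dvd_of_dvd (by norm_num : Nat.Coprime 6 7) h6 h5

theorem sqf30 : Squarefree 30 := by decide +kernel
theorem sqf42 : Squarefree 42 := by decide +kernel

theorem NS.simple60 (h : NS G) (hc : Nat.card G = 60) : IsSimpleGroup G := by
  haveI := nontrivial_of_card (G := G) (by rw [hc]; norm_num)
  refine ⟨fun N hN => ?_⟩
  by_cases hne : N = ⊥
  · left; exact hne
  · right
    have hd : Nat.card N ∣ 60 := by rw [← hc]; exact Subgroup.card_subgroup_dvd_card N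
    have h30 : 30 ∣ Nat.card N := h.thirty hN hne (a := 2) (b := 1) (c := 1) (by norm_num; exact hd)
    have h1 : Nat.card N = 30 ∨ Nat.card N = 60 := by
      obtain ⟨k, hk⟩ := h30
      rw [hk] at hd
      have : k ∣ 2 := by
        have e : 60 = 30 * 2 := by norm_num
        rw [e] at hd
        exact Nat.dvd_of_mul_dvd_mul_left (by norm_num) hd
      rcases (Nat.dvd_prime Nat.prime_two).1 this with h | h <;> subst h <;> omega
    rcases h1 with h1 | h1
    · exfalso
      haveI := nontrivial_sub hne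
      exact not_NS_squarefree (G := N) (by rw [h1]; exact sqf30) (h.of_normal hN)
    · exact Subgroup.eq_top_of_card_eq N (by rw [h1, hc])

theorem NS.equiv60 (h : NS G) (hc : Nat.card G = 60) : Nonempty (G ≃* alternatingGroup (Fin 5)) := by
  haveI := h.simple60 hc
  exact Cfsg.Agent.S0494.result hc

theorem NS.simple168 (h : NS G) (hc : Nat.card G = 168) : IsSimpleGroup G := by
  haveI := nontrivial_of_card (G := G) (by rw [hc]; norm_num)
  refine ⟨fun N hN => ?_⟩
  by_cases hne : N = ⊥
  · left; exact hne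
  · right
    have hd : Nat.card N ∣ 168 := by rw [← hc]; exact Subgroup.card_subgroup_dvd_card N
    have h42 : 42 ∣ Nat.card N := h.fortytwo hN hne (a := 3) (b := 1) (c := 1) (by norm_num; exact hd)
    have h1 : Nat.card N = 42 ∨ Nat.card N = 84 ∨ Nat.card N = 168 := by
      obtain ⟨k, hk⟩ := h42
      rw [hk] at hd
      have : k ∣ 2 ^ 2 := by
        have e : 168 = 42 * 2 ^ 2 := by norm_num
        rw [e] at hd
        exact Nat.dvd_of_mul_dvd_mul_left (by norm_num) hd
      obtain ⟨i, hi, rfl⟩ := (Nat.dvd_prime_pow Nat.prime_two).1 this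
      interval_cases i <;> omega
    rcases h1 with h1 | h1 | h1
    · exfalso
      haveI := nontrivial_sub hne
      exact not_NS_squarefree (G := N) (by rw [h1]; exact sqf42) (h.of_normal hN)
    · exfalso
      haveI : Fact (Nat.Prime 7) := ⟨by norm_num⟩
      obtain ⟨P⟩ : Nonempty (Sylow 7 N) := inferInstance
      have hP : Nat.card (P : Subgroup N) = 7 := by
        have := P.card_eq_multiplicity
        rw [h1] at this
        rw [this]
        have e : Nat.factorization 84 7 = 1 := by
          rw [show (84 : ℕ) = 7 * 12 by norm_num]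
          rw [Nat.factorization_mul (by norm_num) (by norm_num), Finsupp.add_apply, Nat.Prime.factorization_self (by norm_num),
            Nat.factorization_eq_zero_of_not_dvd (by norm_num)]
        rw [e]; norm_num
      have hd7 : Nat.card (Sylow 7 N) ∣ 12 := by
        have h3 := P.card_dvd_index
        have h4 := (P : Subgroup N).card_mul_index
        rw [hP, h1] at h4
        have : (P : Subgroup N).index = 12 := by omega
        rwa [this] at h3
      have hm : Nat.card (Sylow 7 N) % 7 = 1 := card_sylow_modEq_one 7 N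
      have h7 : Nat.card (Sylow 7 N) = 1 := by
        have key : ∀ n ∈ Nat.divisors 12, n % 7 = 1 → n = 1 := by decide +kernel
        exact key _ (Nat.mem_divisors.2 ⟨hd7, by norm_num⟩) hm
      have hPn : (P : Subgroup N).Normal := by
        haveI : Subsingleton (Sylow 7 N) := (Nat.card_eq_one_iff_unique.1 h7).1
        exact Sylow.normal_of_subsingleton P
      have hb := (h.of_normal hN) (P : Subgroup N) hPn (Cfsg.Agent.S0144.result 7 2 1 0 (by norm_num) (by norm_num) (by rw [hP]; norm_num))
      rw [hb] at hP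
      simp at hP
    · exact Subgroup.eq_top_of_card_eq N (by rw [h1, hc])

theorem NS.equiv120 (h : NS G) (hc : Nat.card G = 120) : Nonempty (G ≃* Equiv.Perm (Fin 5)) := by
  classical
  haveI hnt := nontrivial_of_card (G := G) (by rw [hc]; norm_num)
  have hns : ¬ IsSimpleGroup G := by
    intro hs
    have := Cfsg.Agent.S0496.result (G := G) (not_comm hnt h) (by rw [hc]; norm_num)
    rw [hc] at this
    omega
  obtain ⟨N, hN, hN1, hN2⟩ : ∃ N : Subgroup G, N.Normal ∧ N ≠ ⊥ ∧ N ≠ ⊤ := by
    by_contra hcon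
    apply hns
    refine ⟨fun N hN => ?_⟩
    by_contra hh
    push Not at hh
    exact hcon ⟨N, hN, hh.1, hh.2⟩
  have hd : Nat.card N ∣ 120 := by rw [← hc]; exact Subgroup.card_subgroup_dvd_card N
  have h30 : 30 ∣ Nat.card N := h.thirty hN hN1 (a := 3) (b := 1) (c := 1) (by norm_num; exact hd)
  have h1 : Nat.card N = 60 := by
    obtain ⟨k, hk⟩ := h30
    rw [hk] at hd
    have : k ∣ 2 ^ 2 := by
      have e : 120 = 30 * 2 ^ 2 := by norm_num
      rw [e] at hd
      exact Nat.dvd_of_mul_dvd_mul_left (by norm_num) hd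
    obtain ⟨i, hi, rfl⟩ := (Nat.dvd_prime_pow Nat.prime_two).1 this
    interval_cases i
    · exfalso
      haveI := nontrivial_sub hN1
      exact not_NS_squarefree (G := N) (by rw [hk]; exact sqf30) (h.of_normal hN)
    · omega
    · exfalso
      exact hN2 (Subgroup.eq_top_of_card_eq N (by rw [hk, hc]; norm_num))
  obtain ⟨e⟩ := (h.of_normal hN).equiv60 h1
  -- the centralizer of N is trivial
  haveI := hN
  have hZ : Subgroup.center N = ⊥ := (h.of_normal hN) _ inferInstance (by
    exact Group.isSolvable_of_comm (fun a b => by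
      apply Subtype.ext
      exact (Subgroup.mem_center_iff.1 b.2 a.1)))
  set C : Subgroup G := centralizer (N : Set G) with hC
  have hCN : C ⊓ N = ⊥ := by
    rw [eq_bot_iff]
    rintro x ⟨hx, hxN⟩
    have : (⟨x, hxN⟩ : N) ∈ Subgroup.center N := by
      rw [Subgroup.mem_center_iff]
      intro g
      apply Subtype.ext
      exact (Subgroup.mem_centralizer_iff.1 hx g.1 g.2)
    rw [hZ, Subgroup.mem_bot] at this
    exact congrArg Subtype.val this
  have hCn : C.Normal := inferInstance
  have hC1 : C = ⊥ := by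
    have h2 : Nat.card C ∣ 2 := by
      have hi : Function.Injective ((QuotientGroup.mk' N).comp C.subtype) := by
        rw [injective_iff_map_eq_one]
        intro x hx
        have hxN : (x : G) ∈ N := (QuotientGroup.eq_one_iff (x : G)).1 hx
        have : (x : G) ∈ C ⊓ N := ⟨x.2, hxN⟩
        rw [hCN, Subgroup.mem_bot] at this
        exact Subtype.ext this
      have h3 := Subgroup.card_dvd_of_injective _ hi
      have h4 : Nat.card (G ⧸ N) = 2 := by
        have := N.card_mul_index
        rw [h1, hc] at this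
        have e : N.index = 2 := by omega
        exact e
      rwa [h4] at h3
    rcases (Nat.dvd_prime Nat.prime_two).1 h2 with h3 | h3
    · exact h.eq_one_of_card hCn (p := 2) (q := 3) (a := 0) (b := 0) (by norm_num) (by norm_num) (by rw [h3]; norm_num)
    · exact h.eq_one_of_card hCn (p := 2) (q := 3) (a := 1) (b := 0) (by norm_num) (by norm_num) (by rw [h3]; norm_num)
  -- embed into Aut N
  have hinj : Function.Injective (MulAut.conjNormal : G →* MulAut N) := by
    rw [injective_iff_map_eq_one]
    intro g hg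
    have : g ∈ C := by
      rw [hC, Subgroup.mem_centralizer_iff]
      intro n hn
      have h2 := congrArg (fun f : MulAut N => ((f ⟨n, hn⟩ : N) : G)) hg
      simp only [MulAut.conjNormal_apply, MulAut.one_apply] at h2
      rw [mul_inv_eq_iff_eq_mul] at h2
      exact h2.symm
    rw [hC1, Subgroup.mem_bot] at this
    exact this
  let f1 : MulAut N ≃* MulAut (alternatingGroup (Fin 5)) := MulAut.congr e
  let f2 : Equiv.Perm (Fin 5) ≃* MulAut (alternatingGroup (Fin 5)) := MulEquiv.ofBijective _ (Cfsg.Agent.S2119.result 5 (by norm_num) (by norm_num))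
  let F : G →* Equiv.Perm (Fin 5) := (f2.symm.toMonoidHom.comp f1.toMonoidHom).comp MulAut.conjNormal
  have hF : Function.Injective F := f2.symm.injective.comp (f1.injective.comp hinj)
  refine ⟨MulEquiv.ofBijective F ?_⟩
  rw [Nat.bijective_iff_injective_and_card]
  refine ⟨hF, ?_⟩
  rw [hc, Nat.card_perm, Nat.card_fin]
  rfl

end Cfsg.Agent.H29.TrivRad
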