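import Mathlib
import Cfsg.Agent.H29.TrivRad
import Cfsg.Agent.H1.Basic

set_option autoImplicit false
set_option linter.unusedSectionVars false
set_option linter.style.haveILetI false

/-!
Transitive groups of small degree: prime degree solvable, degrees 5, 6.
-/

namespace Cfsg.Agent.H29.PrimeDeg

open Subgroup MulAction
open Cfsg.Agent.H29.TrivRad

section gen
variable {S X : Type*} [Group S] [Finite S] [MulAction S X] [Finite X]

theorem prime_solv [FaithfulSMul S X] {p : ℕ} (hp : p.Prime) (hX : Nat.card X = p) [IsPretransitive S X] (hs : Group.IsSolvable S) :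
    (∃ d, d < p ∧ Nat.card S = p * d) ∧ ∀ t : S, ∀ x y : X, x ≠ y → t • x = x → t • y = y → t = 1 := by
  haveI hprim : IsPreprimitive S X := IsPreprimitive.of_prime_card (by rw [hX]; exact hp)
  haveI hntX : Nontrivial X := by
    rw [← Finite.one_lt_card_iff_nontrivial, hX]; exact hp.one_lt
  haveI hntS : Nontrivial S := by
    obtain ⟨x, y, hxy⟩ := exists_pair_ne X
    obtain ⟨g, hg⟩ := exists_smul_eq S x y
    refine ⟨⟨g, 1, fun h => hxy ?_⟩⟩
    rw [← hg, h, one_smul]
  obtain ⟨N, hNc, hN1, hNa⟩ := Cfsg.Agent.H1.exists_abelian_characteristic_of_solvable S hs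
  haveI := hNc
  haveI hNn : N.Normal := inferInstance
  have hfix : fixedPoints N X ≠ .univ := by
    intro h
    apply hN1
    rw [eq_bot_iff]
    intro n hn
    rw [Subgroup.mem_bot]
    apply FaithfulSMul.eq_of_smul_eq_smul (α := X)
    intro x
    have : x ∈ fixedPoints N X := by rw [h]; trivial
    rw [one_smul]
    exact this ⟨n, hn⟩
  haveI hNt : IsPretransitive N X := IsQuasiPreprimitive.isPretransitive_of_normal (G := S) hfix
  have hcomm : ∀ a ∈ N, ∀ b ∈ N, a * b = b * a := fun a ha b hb => congrArg Subtype.val (hNa.is_comm.comm (⟨a, ha⟩ : N) ⟨b, hb⟩)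
  have hreg : ∀ n ∈ N, ∀ x : X, n • x = x → n = 1 := by
    intro n hn x hx
    apply FaithfulSMul.eq_of_smul_eq_smul (α := X)
    intro y
    obtain ⟨m, hm⟩ := exists_smul_eq N x y
    have hm' : (m : S) • x = y := hm
    rw [one_smul, ← hm', smul_smul, hcomm n hn m m.2, ← smul_smul, hx]
  have hNcard : Nat.card N = p := by
    obtain ⟨x⟩ : Nonempty X := inferInstance
    rw [← hX]
    refine Nat.card_congr (Equiv.ofBijective (fun n : N => (n : S) • x) ⟨?_, ?_⟩)
    · intro a b hab
      have h1 : ((b⁻¹ * a : N) : S) • x = x := by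
        have hab' : (a : S) • x = (b : S) • x := hab
        rw [Subgroup.coe_mul, ← smul_smul, hab', smul_smul, Subgroup.coe_inv, inv_mul_cancel, one_smul]
      have h2 := hreg _ (b⁻¹ * a).2 x h1
      have h3 : b⁻¹ * a = 1 := Subtype.ext h2
      exact (inv_mul_eq_one.1 h3).symm
    · intro y
      obtain ⟨m, hm⟩ := exists_smul_eq N x y
      exact ⟨m, hm⟩
  have hgen : ∀ n ∈ N, n ≠ 1 → ∀ m ∈ N, m ∈ zpowers n := by
    intro n hn hn1 m hm
    have h1 : zpowers n = N := by
      apply Subgroup.eq_of_le_of_card_ge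
      · rw [zpowers_le]; exact hn
      · rw [hNcard]
        have h2 : Nat.card (zpowers n) ∣ p := by
          rw [← hNcard]; exact Subgroup.card_dvd_of_le (by rw [zpowers_le]; exact hn)
        rcases (Nat.dvd_prime hp).1 h2 with h | h
        · exact absurd (Subgroup.zpowers_eq_bot.1 (Subgroup.card_eq_one.1 h)) hn1
        · exact h.ge
    rw [h1]; exact hm
  have key : ∀ t : S, ∀ x y : X, x ≠ y → t • x = x → t • y = y → t = 1 := by
    intro t x y hxy htx hty
    obtain ⟨n, hn⟩ := exists_smul_eq N x y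
    have hn' : (n : S) • x = y := hn
    have h1 : t * n * t⁻¹ = (n : S) := by
      have h2 : t * n * t⁻¹ ∈ N := hNn.conj_mem n n.2 t
      have h3 : (n : S)⁻¹ * (t * n * t⁻¹) = 1 := by
        apply hreg _ (N.mul_mem (N.inv_mem n.2) h2) x
        have h4 : t⁻¹ • x = x := by rw [inv_smul_eq_iff, htx]
        rw [← smul_smul, ← smul_smul, ← smul_smul, h4, hn', hty, inv_smul_eq_iff, hn']
      exact (inv_mul_eq_one.1 h3).symm
    have hn1 : (n : S) ≠ 1 := fun h => hxy (by rw [← hn', h, one_smul])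
    have hc : ∀ m ∈ N, t * m = m * t := by
      intro m hm
      obtain ⟨k, rfl⟩ := Subgroup.mem_zpowers_iff.1 (hgen n n.2 hn1 m hm)
      have : Commute t (n : S) := by
        have := mul_inv_eq_iff_eq_mul.1 h1
        exact this
      exact (this.zpow_right k).eq
    apply FaithfulSMul.eq_of_smul_eq_smul (α := X)
    intro z
    obtain ⟨m, hm⟩ := exists_smul_eq N x z
    have hm' : (m : S) • x = z := hm
    rw [one_smul, ← hm', smul_smul, hc m m.2, ← smul_smul, htx]
  refine ⟨?_, key⟩
  obtain ⟨x, y, hxy⟩ := exists_pair_ne X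
  refine ⟨Nat.card (stabilizer S x), ?_, ?_⟩
  · have h1 : Nat.card (stabilizer S x) ≤ Nat.card {z : X // z ≠ x} := by
      refine Nat.card_le_card_of_injective (fun t : stabilizer S x => (⟨(t : S) • y, fun h => hxy ?_⟩ : {z : X // z ≠ x})) ?_
      · have h2 : (t : S) • x = x := t.2
        exact (smul_left_cancel (t : S) (h.trans h2.symm)).symm
      · intro a b hab
        have hab' : (a : S) • y = (b : S) • y := congrArg Subtype.val hab
        have h3 : (b : S)⁻¹ * a = 1 := by
          apply key _ x y hxy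
          · have ha : (a : S) • x = x := a.2
            have hb : (b : S) • x = x := b.2
            rw [← smul_smul, ha, inv_smul_eq_iff, hb]
          · rw [← smul_smul, hab', inv_smul_smul]
        exact Subtype.ext (inv_mul_eq_one.1 h3).symm
    have h2 : Nat.card {z : X // z ≠ x} = p - 1 := by
      classical
      haveI := Fintype.ofFinite X
      rw [Nat.card_eq_fintype_card, Fintype.card_subtype_compl, Fintype.card_subtype_eq, ← Nat.card_eq_fintype_card, hX]
    have := hp.one_lt
    omega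
  · have h1 := MulAction.index_stabilizer_of_transitive S x
    rw [← Subgroup.card_mul_index (stabilizer S x), h1, hX, mul_comm]

theorem card_dvd_of_fix [FaithfulSMul S X] (O : Set X) (h : ∀ n : S, ∀ y ∈ O, n • y = y) :
    Nat.card S ∣ (Nat.card {y : X // y ∉ O}).factorial := by
  have hst : ∀ (n : S) (y : X), y ∉ O → n • y ∉ O := by
    intro n y hy hn
    have h1 := h n⁻¹ _ hn
    rw [inv_smul_smul] at h1
    rw [← h1] at hn
    exact hy hn
  letI act : MulAction S {y : X // y ∉ O} :=
    { smul := fun n y => ⟨n • y.1, hst n y.1 y.2⟩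
      one_smul := fun y => Subtype.ext (one_smul S y.1)
      mul_smul := fun a b y => Subtype.ext (mul_smul a b y.1) }
  have hinj : Function.Injective (MulAction.toPermHom S {y : X // y ∉ O}) := by
    rw [injective_iff_map_eq_one]
    intro n hn
    apply FaithfulSMul.eq_of_smul_eq_smul (α := X)
    intro y
    rw [one_smul]
    by_cases hy : y ∈ O
    · exact h n y hy
    · have := congrArg (fun f : Equiv.Perm {y : X // y ∉ O} => (f ⟨y, hy⟩ : X)) hn
      exact this
  have := Subgroup.card_dvd_of_injective _ hinj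
  rwa [Nat.card_perm] at this

/-- faithful on a large orbit -/
theorem faithful_orbit [FaithfulSMul S X] (hNS : NS S) (x : X) (hc : Nat.card {y : X // y ∉ orbit S x} ≤ 3) :
    FaithfulSMul S (orbit S x) := by
  set N := (MulAction.toPermHom S (orbit S x)).ker with hN
  haveI : FaithfulSMul N X := ⟨fun {a b} h => Subtype.ext (FaithfulSMul.eq_of_smul_eq_smul (α := X) h)⟩
  have h1 : Nat.card N ∣ (Nat.card {y : X // y ∉ orbit S x}).factorial := by
    apply card_dvd_of_fix (S := N)
    intro n y hy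
    have h2 : (MulAction.toPermHom S (orbit S x)) n.1 = 1 := n.2
    have h3 := congrArg (fun f : Equiv.Perm (orbit S x) => ((f ⟨y, hy⟩ : orbit S x) : X)) h2
    exact h3
  have h2 : Nat.card N ∣ 6 := h1.trans (by
    have : ∀ k, k ≤ 3 → k.factorial ∣ 6 := by decide
    exact this _ hc)
  have h3 : N = ⊥ := by
    have h4 : ∃ a b : ℕ, Nat.card N = 2 ^ a * 3 ^ b := by
      have h5 : Nat.card N ∈ Nat.divisors 6 := Nat.mem_divisors.2 ⟨h2, by norm_num⟩
      have h6 : Nat.divisors 6 = {1, 2, 3, 6} := by decide +kernel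
      rw [h6] at h5
      simp at h5
      rcases h5 with h | h | h | h
      · exact ⟨0, 0, by rw [h]; norm_num⟩
      · exact ⟨1, 0, by rw [h]; norm_num⟩
      · exact ⟨0, 1, by rw [h]; norm_num⟩
      · exact ⟨1, 1, by rw [h]; norm_num⟩
    obtain ⟨a, b, hab⟩ := h4
    exact hNS.eq_one_of_card (inferInstance : N.Normal) (by norm_num) (by norm_num) hab
  refine ⟨fun {a b} h => ?_⟩
  have h4 : b⁻¹ * a ∈ N := by
    rw [hN, MonoidHom.mem_ker]
    ext y
    rw [Equiv.Perm.one_apply]
    have : (b⁻¹ * a) • y = y := by rw [mul_smul, h y, inv_smul_smul]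
    exact congrArg Subtype.val this
  rw [h3, Subgroup.mem_bot] at h4
  exact (inv_mul_eq_one.1 h4).symm

/-- an element of prime order has an orbit of prime size -/
theorem exists_orbit_ge [FaithfulSMul S X] {p : ℕ} (hp : p.Prime) (hd : p ∣ Nat.card S) : ∃ x : X, p ≤ Nat.card (orbit S x) := by
  haveI : Fact p.Prime := ⟨hp⟩
  obtain ⟨s, hs⟩ := exists_prime_orderOf_dvd_card' (G := S) p hd
  have hs1 : s ≠ 1 := by
    rintro rfl
    rw [orderOf_one] at hs
    exact hp.one_lt.ne hs
  obtain ⟨x, hx⟩ : ∃ x : X, s • x ≠ x := by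
    by_contra hcon
    push Not at hcon
    apply hs1
    apply FaithfulSMul.eq_of_smul_eq_smul (α := X)
    intro x; rw [hcon x, one_smul]
  refine ⟨x, ?_⟩
  have hsub : orbit (zpowers s) x ⊆ orbit S x := by
    rintro _ ⟨g, rfl⟩
    exact ⟨(g : S), rfl⟩
  have h1 : Nat.card (orbit (zpowers s) x) ≤ Nat.card (orbit S x) := by
    rw [Nat.card_coe_set_eq, Nat.card_coe_set_eq]
    exact Set.ncard_le_ncard hsub (Set.toFinite _)
  refine le_trans ?_ h1
  have hpg : IsPGroup p (zpowers s) := by
    rw [IsPGroup.iff_card, Nat.card_zpowers]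
    exact ⟨1, by rw [hs, pow_one]⟩
  obtain ⟨k, hk⟩ := hpg.card_orbit x
  rw [hk]
  have hk0 : k ≠ 0 := by
    rintro rfl
    rw [pow_zero, Nat.card_eq_one_iff_unique] at hk
    apply hx
    have h1 : s • x ∈ orbit (zpowers s) x := ⟨⟨s, mem_zpowers s⟩, rfl⟩
    have h2 : x ∈ orbit (zpowers s) x := mem_orbit_self x
    exact congrArg Subtype.val (@Subsingleton.elim _ hk.1 (⟨_, h1⟩ : orbit (zpowers s) x) ⟨_, h2⟩)
  calc p = p ^ 1 := (pow_one p).symm
    _ ≤ p ^ k := Nat.pow_le_pow_right hp.pos (Nat.one_le_iff_ne_zero.2 hk0)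

/-- point stabilizer data in degree p+1 -/
theorem stab_data [FaithfulSMul S X] [IsPretransitive S X] {p : ℕ} (hp : p.Prime) (hX : Nat.card X = p + 1) (hd : p ∣ Nat.card S) :
    ∃ x y : X, orbit (stabilizer S x) y = ({x}ᶜ : Set X) ∧ Nat.card S = (p + 1) * Nat.card (stabilizer S x) ∧
      FaithfulSMul (stabilizer S x) (orbit (stabilizer S x) y) ∧ Nat.card (orbit (stabilizer S x) y) = p := by
  haveI : Fact p.Prime := ⟨hp⟩
  obtain ⟨s, hs⟩ := exists_prime_orderOf_dvd_card' (G := S) p hd
  have hs1 : s ≠ 1 := by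
    rintro rfl
    rw [orderOf_one] at hs
    exact hp.one_lt.ne hs
  have hpg : IsPGroup p (zpowers s) := by
    rw [IsPGroup.iff_card, Nat.card_zpowers]
    exact ⟨1, by rw [hs, pow_one]⟩
  obtain ⟨x, hx⟩ : ∃ x : X, s • x = x := by
    have h1 := hpg.card_modEq_card_fixedPoints X
    rw [hX] at h1
    have h2 : Nat.card (fixedPoints (zpowers s) X) ≠ 0 := by
      intro h
      rw [h] at h1
      have h3 : p ∣ p + 1 := (Nat.modEq_zero_iff_dvd).1 h1
      have h4 : p ∣ 1 := (Nat.dvd_add_right (dvd_refl p)).1 h3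
      exact hp.one_lt.ne' (Nat.dvd_one.1 h4)
    obtain ⟨⟨x, hx⟩⟩ : Nonempty (fixedPoints (zpowers s) X) := by
      by_contra hcon
      rw [not_nonempty_iff] at hcon
      exact h2 (Nat.card_eq_zero.2 (Or.inl hcon))
    exact ⟨x, hx ⟨s, mem_zpowers s⟩⟩
  obtain ⟨y, hy⟩ : ∃ y : X, s • y ≠ y := by
    by_contra hcon
    push Not at hcon
    apply hs1
    apply FaithfulSMul.eq_of_smul_eq_smul (α := X)
    intro x; rw [hcon x, one_smul]
  have hsx : zpowers s ≤ stabilizer S x := by rw [zpowers_le]; exact hx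
  have hsub1 : orbit (zpowers s) y ⊆ orbit (stabilizer S x) y := by
    rintro _ ⟨g, rfl⟩
    exact ⟨⟨(g : S), hsx g.2⟩, rfl⟩
  have hxy : y ≠ x := fun h => hy (by rw [h, hx])
  have hsub2 : orbit (stabilizer S x) y ⊆ ({x}ᶜ : Set X) := by
    rintro _ ⟨g, rfl⟩ h
    have h1 : (g : S) • y = x := h
    have h2 : (g : S) • x = x := g.2
    exact hxy (smul_left_cancel (g : S) (h1.trans h2.symm))
  obtain ⟨k, hk⟩ := hpg.card_orbit y
  have hk0 : k ≠ 0 := by
    rintro rfl
    rw [pow_zero, Nat.card_eq_one_iff_unique] at hk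
    apply hy
    have h1 : s • y ∈ orbit (zpowers s) y := ⟨⟨s, mem_zpowers s⟩, rfl⟩
    have h2 : y ∈ orbit (zpowers s) y := mem_orbit_self y
    exact congrArg Subtype.val (@Subsingleton.elim _ hk.1 (⟨_, h1⟩ : orbit (zpowers s) y) ⟨_, h2⟩)
  have hle : p ≤ (orbit (zpowers s) y).ncard := by
    rw [← Nat.card_coe_set_eq, hk]
    calc p = p ^ 1 := (pow_one p).symm
      _ ≤ p ^ k := Nat.pow_le_pow_right hp.pos (Nat.one_le_iff_ne_zero.2 hk0)
  have hcompl : ({x}ᶜ : Set X).ncard = p := by
    rw [Set.ncard_compl, Set.ncard_singleton, hX]; omega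
  have heq : orbit (stabilizer S x) y = ({x}ᶜ : Set X) := by
    apply Set.eq_of_subset_of_ncard_le hsub2
    · rw [hcompl]
      exact hle.trans (Set.ncard_le_ncard hsub1 (Set.toFinite _))
  refine ⟨x, y, heq, ?_, ?_, ?_⟩
  · have h1 := MulAction.index_stabilizer_of_transitive S x
    rw [← Subgroup.card_mul_index (stabilizer S x), h1, hX, mul_comm]
  · refine ⟨fun {a b} h => ?_⟩
    apply Subtype.ext
    apply FaithfulSMul.eq_of_smul_eq_smul (α := X)
    intro z
    by_cases hz : z = x
    · have ha : (a : S) • x = x := a.2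
      have hb : (b : S) • x = x := b.2
      rw [hz, ha, hb]
    · have hz' : z ∈ orbit (stabilizer S x) y := by rw [heq]; exact hz
      exact congrArg Subtype.val (h ⟨z, hz'⟩)
  · rw [Nat.card_coe_set_eq, heq, hcompl]


theorem toPerm_injective [FaithfulSMul S X] : Function.Injective (MulAction.toPermHom S X) := by
  intro a b h
  apply FaithfulSMul.eq_of_smul_eq_smul (α := X)
  intro x
  exact congrArg (fun f : Equiv.Perm X => f x) h

/-- the image permutation group -/
noncomputable def imgEquiv (S X : Type*) [Group S] [MulAction S X] [FaithfulSMul S X] : S ≃* (MulAction.toPermHom S X).range :=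
  MonoidHom.ofInjective (fun a b h => by
    apply FaithfulSMul.eq_of_smul_eq_smul (α := X)
    intro x
    exact congrArg (fun f : Equiv.Perm X => f x) h)

theorem img_trans [IsPretransitive S X] : IsPretransitive (MulAction.toPermHom S X).range X :=
  ⟨fun x y => by
    obtain ⟨g, hg⟩ := exists_smul_eq S x y
    exact ⟨⟨_, ⟨g, rfl⟩⟩, hg⟩⟩

theorem solvable_of_dvd {p q a b : ℕ} (hp : p.Prime) (hq : q.Prime) (h : Nat.card S ∣ p ^ a * q ^ b) : Group.IsSolvable S := by
  obtain ⟨x, y, hx, hy, hxy⟩ := (Nat.dvd_mul.1 h)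
  obtain ⟨i, -, rfl⟩ := (Nat.dvd_prime_pow hp).1 hx
  obtain ⟨j, -, rfl⟩ := (Nat.dvd_prime_pow hq).1 hy
  exact Cfsg.Agent.S0144.result p q i j hp hq hxy.symm

theorem isSolvable_congr {A B : Type*} [Group A] [Group B] (e : A ≃* B) (h : Group.IsSolvable A) : Group.IsSolvable B :=
  Group.isSolvable_of_surjective (f := e.toMonoidHom) e.surjective

theorem deg5_card [FaithfulSMul S X] [IsPretransitive S X] (hX : Nat.card X = 5) (hs : ¬ Group.IsSolvable S) :
    Nat.card S = 60 ∨ Nat.card S = 120 := by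
  classical
  haveI := Fintype.ofFinite X
  set T := (MulAction.toPermHom S X).range with hT
  have e : S ≃* T := imgEquiv S X
  haveI hTt : IsPretransitive T X := img_trans
  haveI hprim : IsPreprimitive T X := IsPreprimitive.of_prime_card (by rw [hX]; norm_num)
  have hc : Nat.card S = Nat.card T := Nat.card_congr e.toEquiv
  have hTd : Nat.card T ∣ 120 := by
    have := Subgroup.card_subgroup_dvd_card T
    rwa [Nat.card_perm, hX] at this
  have h3 : 3 ∣ Nat.card T := by
    by_contra hcon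
    apply hs
    apply solvable_of_dvd (p := 2) (q := 5) (a := 3) (b := 1) (by norm_num) (by norm_num)
    rw [hc]
    have h1 : Nat.Coprime (Nat.card T) 3 := ((by norm_num : Nat.Prime 3).coprime_iff_not_dvd.2 hcon).symm
    have h7 : Nat.card T ∣ (2 ^ 3 * 5 ^ 1) * 3 := by
      rw [show (2 ^ 3 * 5 ^ 1) * 3 = 120 by norm_num]; exact hTd
    exact h1.dvd_of_dvd_mul_right h7
  haveI : Fact (Nat.Prime 3) := ⟨by norm_num⟩
  obtain ⟨g, hg⟩ := exists_prime_orderOf_dvd_card' (G := T) 3 h3
  have hg' : orderOf (g : Equiv.Perm X) = 3 := by rw [Subgroup.orderOf_coe]; exact hg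
  have hcyc : (g : Equiv.Perm X).IsThreeCycle := by
    obtain ⟨n, hn⟩ := Equiv.Perm.cycleType_prime_order (σ := (g : Equiv.Perm X)) (by rw [hg']; norm_num)
    have h1 := (g : Equiv.Perm X).sum_cycleType
    have h2 := Finset.card_le_univ (g : Equiv.Perm X).support
    rw [← Nat.card_eq_fintype_card, hX, ← h1, hn, Multiset.sum_replicate, hg', smul_eq_mul] at h2
    have h4 : n = 0 := by omega
    rw [Equiv.Perm.IsThreeCycle, hn, h4, hg']
    rfl
  have hle := Equiv.Perm.alternatingGroup_le_of_isPreprimitive_of_isThreeCycle_mem hprim hcyc g.2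
  haveI : Nontrivial X := by
    rw [← Finite.one_lt_card_iff_nontrivial, hX]; norm_num
  have h60 : 60 ∣ Nat.card T := by
    have h1 := Subgroup.card_dvd_of_le hle
    rw [nat_card_alternatingGroup, hX] at h1
    exact h1
  rw [hc]
  obtain ⟨k, hk⟩ := h60
  rw [hk] at hTd
  have : k ∣ 2 := by
    have e : 120 = 60 * 2 := by norm_num
    rw [e] at hTd
    exact Nat.dvd_of_mul_dvd_mul_left (by norm_num) hTd
  rcases (Nat.dvd_prime Nat.prime_two).1 this with h | h <;> subst h <;> omega

theorem deg5 [FaithfulSMul S X] [IsPretransitive S X] (hX : Nat.card X = 5) (hNS : NS S) :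
    Nonempty (S ≃* alternatingGroup (Fin 5)) ∨ Nonempty (S ≃* Equiv.Perm (Fin 5)) := by
  haveI : Nontrivial X := by
    rw [← Finite.one_lt_card_iff_nontrivial, hX]; norm_num
  haveI : Nontrivial S := by
    obtain ⟨x, y, hxy⟩ := exists_pair_ne X
    obtain ⟨g, hg⟩ := exists_smul_eq S x y
    refine ⟨⟨g, 1, fun h => hxy ?_⟩⟩
    rw [← hg, h, one_smul]
  rcases deg5_card hX hNS.not_solvable with h | h
  · exact Or.inl (hNS.equiv60 h)
  · exact Or.inr (hNS.equiv120 h)

theorem mod_le_one [FaithfulSMul S X] {p q : ℕ} (hq : q.Prime) (hX : Nat.card X = p)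
    (hfix : ∀ t : S, ∀ x y : X, x ≠ y → t • x = x → t • y = y → t = 1) (hd : q ∣ Nat.card S) : p % q ≤ 1 := by
  haveI : Fact q.Prime := ⟨hq⟩
  obtain ⟨s, hs⟩ := exists_prime_orderOf_dvd_card' (G := S) q hd
  have hs1 : s ≠ 1 := by
    rintro rfl
    rw [orderOf_one] at hs
    exact hq.one_lt.ne hs
  have hpg : IsPGroup q (zpowers s) := by
    rw [IsPGroup.iff_card, Nat.card_zpowers]
    exact ⟨1, by rw [hs, pow_one]⟩
  have h1 := hpg.card_modEq_card_fixedPoints X
  rw [hX] at h1
  have h2 : Nat.card (fixedPoints (zpowers s) X) ≤ 1 := by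
    haveI : Subsingleton (fixedPoints (zpowers s) X) := by
      refine ⟨fun a b => ?_⟩
      by_contra hab
      apply hs1
      exact hfix s a.1 b.1 (fun h => hab (Subtype.ext h)) (a.2 ⟨s, mem_zpowers s⟩) (b.2 ⟨s, mem_zpowers s⟩)
    exact Finite.card_le_one_iff_subsingleton.2 inferInstance
  have h3 : p % q = Nat.card (fixedPoints (zpowers s) X) % q := h1
  rw [h3]
  exact (Nat.mod_le _ _).trans h2

theorem nontrivial_of_trans [IsPretransitive S X] (hX : 1 < Nat.card X) : Nontrivial S := by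
  haveI : Nontrivial X := by rwa [← Finite.one_lt_card_iff_nontrivial]
  obtain ⟨x, y, hxy⟩ := exists_pair_ne X
  obtain ⟨g, hg⟩ := exists_smul_eq S x y
  refine ⟨⟨g, 1, fun h => hxy ?_⟩⟩
  rw [← hg, h, one_smul]

theorem equiv_fin {n : ℕ} (hX : Nat.card X = n) : Nonempty (X ≃ Fin n) := ⟨Finite.equivFinOfCardEq hX⟩

/-- a faithful group of order n! is symmetric -/
theorem equiv_perm [FaithfulSMul S X] {n : ℕ} (hX : Nat.card X = n) (hc : Nat.card S = n.factorial) : Nonempty (S ≃* Equiv.Perm (Fin n)) := by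
  obtain ⟨f⟩ := equiv_fin hX
  have hb : Function.Bijective (MulAction.toPermHom S X) := by
    rw [Nat.bijective_iff_injective_and_card]
    exact ⟨toPerm_injective, by rw [hc, Nat.card_perm, hX]⟩
  exact ⟨(MulEquiv.ofBijective _ hb).trans (f.permCongrHom)⟩

/-- a faithful group of order n!/2 is alternating -/
theorem equiv_alt [FaithfulSMul S X] {n : ℕ} (hn : 1 < n) (hX : Nat.card X = n) (hc : 2 * Nat.card S = n.factorial) :
    Nonempty (S ≃* alternatingGroup (Fin n)) := by
  classical
  haveI := Fintype.ofFinite X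
  obtain ⟨f⟩ := equiv_fin hX
  haveI : Nontrivial X := by rw [← Finite.one_lt_card_iff_nontrivial, hX]; exact hn
  set T := (MulAction.toPermHom S X).range with hT
  have e : S ≃* T := imgEquiv S X
  have hTc : Nat.card T = Nat.card S := Nat.card_congr e.symm.toEquiv
  have hi : T.index = 2 := by
    have h1 := T.card_mul_index
    rw [hTc, Nat.card_perm, hX, ← hc, mul_comm 2] at h1
    exact Nat.eq_of_mul_eq_mul_left Nat.card_pos h1
  have hTa := Equiv.Perm.eq_alternatingGroup_of_index_eq_two hi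
  exact ⟨(e.trans (MulEquiv.subgroupCongr hTa)).trans (Equiv.altCongrHom f)⟩

theorem deg6 [FaithfulSMul S X] [IsPretransitive S X] (hX : Nat.card X = 6) (h5 : 5 ∣ Nat.card S) (hNS : NS S) :
    Nonempty (S ≃* alternatingGroup (Fin 5)) ∨ Nonempty (S ≃* Equiv.Perm (Fin 5)) ∨
    Nonempty (S ≃* alternatingGroup (Fin 6)) ∨ Nonempty (S ≃* Equiv.Perm (Fin 6)) := by
  haveI hnt : Nontrivial S := nontrivial_of_trans (X := X) (by rw [hX]; norm_num)
  obtain ⟨x, y, -, hc, hf, hO⟩ := stab_data (S := S) (X := X) (p := 5) (by norm_num) hX h5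
  haveI := hf
  by_cases hs : Group.IsSolvable (stabilizer S x)
  · obtain ⟨⟨d, hd, hcd⟩, hfix⟩ := prime_solv (S := stabilizer S x) (X := orbit (stabilizer S x) y) (p := 5) (by norm_num) hO hs
    have h3 : ¬ 3 ∣ Nat.card (stabilizer S x) := by
      intro h
      have := mod_le_one (q := 3) (by norm_num) hO hfix h
      norm_num at this
    have hd0 : d ≠ 0 := by
      rintro rfl
      have : Nat.card (stabilizer S x) ≠ 0 := Nat.card_pos.ne'
      omega
    have hd3 : d ≠ 3 := by
      rintro rfl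
      apply h3; rw [hcd]; norm_num
    rw [hcd] at hc
    have hcases : d = 1 ∨ d = 2 ∨ d = 4 := by omega
    rcases hcases with rfl | rfl | rfl
    · exfalso
      exact not_NS_squarefree (G := S) (by rw [hc]; exact sqf30) hNS
    · exact Or.inl (hNS.equiv60 (by rw [hc]))
    · exact Or.inr (Or.inl (hNS.equiv120 (by rw [hc])))
  · rcases deg5_card hO hs with h | h
    · refine Or.inr (Or.inr (Or.inl (equiv_alt (X := X) (by norm_num) hX ?_)))
      rw [hc, h]; decide
    · refine Or.inr (Or.inr (Or.inr (equiv_perm (X := X) hX ?_)))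
      rw [hc, h]; decide

end gen

end Cfsg.Agent.H29.PrimeDeg
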